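import Mathlib.NumberTheory.Padics.PadicVal.Basic
import Mathlib.Algebra.Order.Chebyshev
import Mathlib.Tactic.LinearCombination
import Mathlib.Tactic.Linarith
import Mathlib.Tactic.Ring

/-! The multiplicity arithmetic for the prime two. -/

set_option autoImplicit false

namespace Cfsg.Agent.Gross

theorem two_arith {ι : Type*} (s : Finset ι) (m : ι → ℕ) {N M e : ℕ} (he : 1 ≤ e)
    (hcard : s.card + 1 = 2 ^ e) (hsum : ∑ i ∈ s, m i = N) (hsq : ∑ i ∈ s, m i ^ 2 = M + 1)
    (hN : N * N = 2 ^ e * M + 1) (hN2 : 2 ≤ N) :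
    2 ≤ e ∧ N + 1 = 2 ^ e ∧ ∀ i ∈ s, m i = 1 := by
  have h := sq_sum_le_card_mul_sum_sq (s := s) (f := m)
  rw [hsum, hsq] at h
  simp only [Nat.cast_id] at h
  have hNM : N ≤ M + 1 := by
    rw [← hsum, ← hsq]
    exact Finset.sum_le_sum fun i _ => by nlinarith [Nat.zero_le (m i)]
  set c := s.card with hc
  set H := 2 ^ e with hH
  have hMc : M + 1 ≤ c := by
    rw [← hcard] at hN
    nlinarith
  have hM1 : N * N + c ≤ (c + 1) * c := by
    rw [hN, ← hcard]
    nlinarith
  have hNc : N ≤ c := by nlinarith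
  have hev : H = 2 * 2 ^ (e - 1) := by rw [hH, ← pow_succ', Nat.sub_add_cancel he]
  have hodd : N % 2 = 1 := by
    rcases Nat.mod_two_eq_zero_or_one N with h0 | h1
    · exfalso
      obtain ⟨k, hk⟩ := Nat.dvd_of_mod_eq_zero h0
      have h2 : 2 * (2 * k * k) = 2 * (2 ^ (e - 1) * M) + 1 := by
        rw [← mul_assoc, ← mul_assoc 2 (2 ^ (e - 1)), ← hev, ← hN, hk]; ring
      omega
    · exact h1
  obtain ⟨k, hk⟩ : ∃ k, N = 2 * k + 1 := ⟨N / 2, by omega⟩
  have hcard' : c + 1 = 2 * 2 ^ (e - 1) := hcard.trans hev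
  have h2 : 2 * (k * (k + 1)) = 2 ^ (e - 1) * M := by
    have h3 : 4 * (k * (k + 1)) + 1 = 2 * (2 ^ (e - 1) * M) + 1 := by
      rw [← mul_assoc 2 (2 ^ (e - 1)), ← hev, ← hN, hk]; ring
    omega
  have he2 : 2 ≤ e := by
    by_contra hlt
    have : e = 1 := by omega
    subst this
    simp only [hH] at hcard
    omega
  obtain ⟨q, hq⟩ : ∃ q, 2 ^ (e - 1) = 2 * q := ⟨2 ^ (e - 2), by rw [← pow_succ']; congr 1; omega⟩
  have h3 : q * M = k * (k + 1) := by rw [hq, mul_assoc] at h2; omega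
  have hqd : q ∣ k * (k + 1) := ⟨M, h3.symm⟩
  have hqpow : q = 2 ^ (e - 2) := by
    have : 2 * 2 ^ (e - 2) = 2 * q := by rw [← pow_succ', ← hq]; congr 1; omega
    omega
  have hNeq : N + 1 = H := by
    rcases Nat.even_or_odd k with hk2 | hk2
    · have hc2 : Nat.Coprime q (k + 1) := by
        rw [hqpow]
        refine Nat.Coprime.pow_left _ ((Nat.prime_two.coprime_iff_not_dvd).2 fun hd => ?_)
        obtain ⟨l, rfl⟩ := hk2
        omega
      obtain ⟨l, rfl⟩ := hc2.dvd_of_dvd_mul_right hqd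
      have hM : M = l * (q * l + 1) := by
        refine Nat.eq_of_mul_eq_mul_left (show 0 < q by rw [hqpow]; positivity) ?_
        rw [h3]; ring
      rcases Nat.lt_or_ge l 2 with hl | hl
      · interval_cases l
        · omega
        · simp only [mul_one, one_mul] at hM hk
          have : q ≤ 1 := by omega
          have h0 : 0 < q := by rw [hqpow]; positivity
          have hq1 : q = 1 := by omega
          exfalso
          subst hq1
          obtain ⟨l, hl⟩ := hk2
          omega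
      · exfalso
        have : q * 2 ≤ q * l := Nat.mul_le_mul_left q hl
        omega
    · have hc2 : Nat.Coprime q k := by
        rw [hqpow]
        refine Nat.Coprime.pow_left _ ((Nat.prime_two.coprime_iff_not_dvd).2 fun hd => ?_)
        obtain ⟨l, rfl⟩ := hk2
        omega
      obtain ⟨l, hl⟩ := hc2.dvd_of_dvd_mul_left hqd
      rcases Nat.lt_or_ge l 2 with hl2 | hl2
      · interval_cases l
        · omega
        · have hM : M = k := by
            refine Nat.eq_of_mul_eq_mul_left (show 0 < q by rw [hqpow]; positivity) ?_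
            rw [h3, hl]; ring
          omega
      · have : q * 2 ≤ q * l := Nat.mul_le_mul_left q hl2
        omega
  refine ⟨he2, hNeq, ?_⟩
  have hMN : M + 1 = N := by omega
  have hsum0 : ∑ i ∈ s, m i = ∑ i ∈ s, m i ^ 2 := by rw [hsum, hsq, hMN]
  have heq := (Finset.sum_eq_sum_iff_of_le fun i _ => Nat.le_self_pow two_ne_zero (m i)).1 hsum0
  have hle : ∀ i ∈ s, m i ≤ 1 := fun i hi => by
    have := heq i hi
    by_contra hgt
    nlinarith
  have hall : ∑ i ∈ s, m i = ∑ _i ∈ s, 1 := by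
    rw [hsum, Finset.sum_const, smul_eq_mul, mul_one, ← hc]; omega
  exact (Finset.sum_eq_sum_iff_of_le hle).1 hall

theorem odd_pow_arith {r d e : ℕ} (hr : r % 2 = 1) (hr2 : 2 ≤ r) (he : 2 ≤ e)
    (h : r ^ d + 1 = 2 ^ e) : d = 1 := by
  have h4 : 4 ∣ r ^ d + 1 := h ▸ (show (4 : ℕ) = 2 ^ 2 by norm_num) ▸ pow_dvd_pow 2 he
  rcases Nat.even_or_odd' d with ⟨k, hk | hk⟩
  · exfalso
    subst hk
    have hsq : r ^ (2 * k) % 4 = 1 := by
      rw [mul_comm, pow_mul, Nat.pow_mod]
      have hodd : r ^ k % 2 = 1 := by simp [Nat.pow_mod, hr]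
      have : r ^ k % 4 = 1 ∨ r ^ k % 4 = 3 := by omega
      rcases this with h1 | h1 <;> rw [h1] <;> norm_num
    omega
  · subst hk
    have hdvd : r + 1 ∣ r ^ (2 * k + 1) + 1 := by
      simpa using Odd.nat_add_dvd_pow_add_pow r 1 ⟨k, rfl⟩
    rw [h] at hdvd
    obtain ⟨a, hae, ha⟩ := (Nat.dvd_prime_pow Nat.prime_two).1 hdvd
    have ha2 : 2 ≤ a := by
      by_contra hlt
      interval_cases a <;> omega
    rcases hae.lt_or_eq with hlt | heq
    · exfalso
      have h1 : r ^ 2 % 2 ^ (a + 1) = 1 := by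
        obtain ⟨b, hb⟩ : ∃ b, 2 ^ a = 4 * b := ⟨2 ^ (a - 2), by
          rw [show (4 : ℕ) = 2 ^ 2 by norm_num, ← pow_add]; congr 1; omega⟩
        obtain ⟨r', hr'⟩ : ∃ r', r = r' + 3 := ⟨r - 3, by omega⟩
        have hb2 : 2 ^ (a + 1) = 2 * (4 * b) := by rw [pow_succ', hb]
        have hb1 : 1 ≤ b := by omega
        obtain ⟨b', rfl⟩ : ∃ b', b = b' + 1 := ⟨b - 1, by omega⟩
        have : r ^ 2 = 2 ^ (a + 1) * (2 * b' + 1) + 1 := by
          rw [hb2, show r = 4 * b' + 3 by omega]; ring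
        rw [this, Nat.mul_add_mod, Nat.mod_eq_of_lt (by omega)]
      have h2 : r ^ (2 * k + 1) % 2 ^ (a + 1) = r % 2 ^ (a + 1) := by
        rw [pow_succ, pow_mul, Nat.mul_mod, Nat.pow_mod, h1, one_pow,
          Nat.mod_eq_of_lt (show 1 < 2 ^ (a + 1) by rw [pow_succ']; omega), one_mul, Nat.mod_mod]
      have h3 : 2 ^ (a + 1) ∣ 2 ^ e := pow_dvd_pow 2 hlt
      rw [← h, Nat.dvd_iff_mod_eq_zero, Nat.add_mod, h2, ← Nat.add_mod, ha, pow_succ'] at h3
      rw [Nat.mod_eq_of_lt (by omega)] at h3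
      omega
    · subst heq
      have hpow : r ^ (2 * k + 1) = r ^ 1 := by rw [pow_one]; omega
      exact Nat.pow_right_injective hr2 hpow

end Cfsg.Agent.Gross
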