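import Cfsg.Agent.Lib.Gross.TopFix
import Cfsg.Agent.Lib.Solvable.CoprimeFreeGroup

/-! The centre of the acting group modulo the centre of the target. -/

set_option autoImplicit false
open scoped commutatorElement

universe u

namespace Cfsg.Agent.Gross

theorem centre_mod {R : Type u} [Group R] [Finite R] {Q : Type*} [Group Q] [Finite Q] {r q n : ℕ}
    (hr : r.Prime) (hq : q.Prime) (hrq : r ≠ q) (hn : 1 ≤ n) (hQ : IsPGroup q Q)
    (θR : MulAut R) (θQ : MulAut Q) (hθR : θR ^ 2 ^ n = 1) (hθQ : θQ ^ 2 ^ n = 1)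
    (hfpf : ∀ x, θR x = x → x = 1) (act : Q →* MulAut R)
    (hcompat : ∀ t x, θR (act t x) = act (θQ t) (θR x))
    (hRZ : ∀ u t : R, ⁅u, t⁆ ∈ Subgroup.center R) (hexp : ∀ x : R, x ^ r ∈ Subgroup.center R)
    (z : Q) (hz : z ∈ Subgroup.center Q) (x : R) :
    x⁻¹ * act (z⁻¹ * (θQ ^ 2 ^ (n - 1)) z) x ∈ Subgroup.center R := by
  classical
  haveI := Fact.mk hr
  letI instW : CommGroup (R ⧸ Subgroup.center R) :=
    { (inferInstance : Group (R ⧸ Subgroup.center R)) with
      mul_comm := fun x y => by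
        obtain ⟨x, rfl⟩ := QuotientGroup.mk_surjective x
        obtain ⟨y, rfl⟩ := QuotientGroup.mk_surjective y
        rw [← commutatorElement_eq_one_iff_mul_comm, ← QuotientGroup.coe_mk' (Subgroup.center R),
          ← map_commutatorElement]
        exact (QuotientGroup.eq_one_iff _).2 (hRZ x y) }
  letI instM : Module (ZMod r) (Additive (R ⧸ Subgroup.center R)) := AddCommGroup.zmodModule fun v => by
    obtain ⟨x, hx⟩ := QuotientGroup.mk_surjective (Additive.toMul v)
    change Additive.ofMul ((Additive.toMul v) ^ r) = 0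
    rw [← hx, ← QuotientGroup.mk_pow, (QuotientGroup.eq_one_iff _).2 (hexp x)]
    rfl
  have hCmap : ∀ φ : MulAut R, (Subgroup.center R).map φ.toMonoidHom = Subgroup.center R := fun φ =>
    Subgroup.characteristic_iff_map_eq.1 inferInstance φ
  let desc : MulAut R →* MulAut (R ⧸ Subgroup.center R) :=
    { toFun := fun φ => QuotientGroup.congr _ _ φ (hCmap φ)
      map_one' := MulEquiv.ext fun x => by
        obtain ⟨x, rfl⟩ := QuotientGroup.mk_surjective x
        rfl
      map_mul' := fun φ ψ => MulEquiv.ext fun x => by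
        obtain ⟨x, rfl⟩ := QuotientGroup.mk_surjective x
        rfl }
  have hfix : ∀ w, desc θR w = w → w = 1 := fun w hw => by
    obtain ⟨s, rfl⟩ := QuotientGroup.mk_surjective w
    refine (QuotientGroup.eq_one_iff s).2 (ShultGross.mem_of_moved_mem θR hfpf _
      (fun t ht => (Subgroup.characteristic_iff_map_le.1 inferInstance θR) ⟨t, ht, rfl⟩) ?_)
    have h4 := (inferInstance : (Subgroup.center R).Normal).conj_mem _ (QuotientGroup.eq.1 hw.symm) s
    rwa [mul_inv_cancel_left] at h4
  obtain ⟨K, iF, iA, iC, U, iU1, iU2, iU3, τ, T, hker, -, hsum, hconj⟩ :=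
    CoprimeFree.linearise (p := r) (r := 2 ^ n) (R ⧸ Subgroup.center R) (desc θR) (desc.comp act) θQ
      (by rw [← map_pow, hθR, map_one]) hfix (fun t => by
        rw [MonoidHom.comp_apply, MonoidHom.comp_apply, ← map_mul, ← map_mul]
        exact congrArg desc (MulEquiv.ext fun x => hcompat t x))
  have hQK : (Nat.card Q : K) ≠ 0 := by
    haveI := Fact.mk hq
    obtain ⟨k, hk⟩ := hQ.exists_card_eq
    rw [hk, Nat.cast_pow]; exact pow_ne_zero _ (CoprimeFree.natCast_ne_zero (p := r) hq hrq)
  have h := center_top_fixed Nat.prime_two hn hQK θQ hθQ τ T hsum hconj z hz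
  have h2 : desc (act (z⁻¹ * (θQ ^ 2 ^ (n - 1)) z)) = 1 := by
    have h1 := hker _ _ h
    simp only [MonoidHom.comp_apply] at h1
    rw [map_mul, map_inv, map_mul, map_inv, h1, inv_mul_cancel]
  exact QuotientGroup.eq.1
    (congrArg (fun F : MulAut (R ⧸ Subgroup.center R) => F (x : R ⧸ Subgroup.center R)) h2).symm

end Cfsg.Agent.Gross
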