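import Cfsg.Agent.Lib.Solvable.CoprimeFree

/-! The count of the eigenvalues of an operator on an irreducible constituent of a group of class two,
together with an equivariant embedding carrying the eigenvectors (extends
`CoprimeFree.inner_count`). -/

set_option autoImplicit false
open scoped commutatorElement

open Module

namespace Cfsg.Agent.Gross

variable {K : Type*} [Field K] [IsAlgClosed K] {V : Type*} [AddCommGroup V] [Module K V]
  [FiniteDimensional K V] {W : Type*} [AddCommGroup W] [Module K W]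
  [FiniteDimensional K W] [Nontrivial W] {Q : Type*} [Group Q] [Finite Q]

open Classical in
theorem inner_eigen {r : ℕ} (hr2 : 2 ≤ r) (hrK : (r : K) ≠ 0) (τ : Q →* Module.End K V)
    (X : Module.End K V) (θ : MulAut Q)
    (hθ : θ ^ r = 1) (hX : X ^ r = 1)
    (hconj : ∀ t, X * τ t = τ (θ t) * X)
    (ρ : Q →* Module.End K W)
    (hirr : ∀ U : Submodule K W, (∀ t, ∀ v ∈ U, ρ t v ∈ U) → U = ⊥ ∨ U = ⊤)
    (ι : W →ₗ[K] V) (hι : ι ≠ 0) (hint : ∀ t, τ t ∘ₗ ι = ι ∘ₗ ρ t)
    (S : Subgroup Q) (μ : Q → K) (hμ : ∀ s ∈ S, ρ s = μ s • 1)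
    (hscal : ∀ (t : Q) (c : K), ρ t = c • 1 → t ∈ S)
    (hcomm : ∀ u t : Q, ⁅u, t⁆ ∈ S) (hSθ : ∀ s ∈ S, θ s ∈ S) (hμθ : ∀ s ∈ S, μ (θ s) = μ s)
    (hfree : ∀ t, t ∉ S → ∀ i, 0 < i → i < r → ((θ ^ i) t) * t⁻¹ ∉ S) (hS : S ≠ ⊤) :
    ∃ (ω : Finset K) (m : K → ℕ) (N M : ℕ), ω.card = r ∧ (1 : K) ∈ ω ∧ 2 ≤ N ∧ N * N = S.index ∧
      N * N = r * M + 1 ∧ ∑ a ∈ ω, m a = N ∧ ∑ a ∈ ω, m a ^ 2 = M + 1 ∧
      (∑ i ∈ Finset.range r, X ^ i = 0 → m 1 = 0) ∧
      ∃ f : W →ₗ[K] V, Function.Injective f ∧ (∀ t, τ t ∘ₗ f = f ∘ₗ ρ t) ∧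
        ∀ a ∈ ω, 0 < m a → ∃ w : W, w ≠ 0 ∧ X (f w) = a • f w := by
  set N := r with hN
  have hN2 : 2 ≤ N := hr2
  obtain ⟨hspan, hschur⟩ := HHLinear.span_eq_top_and_schur ρ hirr
  have hSn : S.Normal := ⟨fun s hs g => by
    rw [show g * s * g⁻¹ = ⁅g, s⁆ * s by rw [commutatorElement_def]; group]
    exact S.mul_mem (hcomm g s) hs⟩
  have hρinv : ∀ t, ρ t⁻¹ * ρ t = 1 := fun t => by rw [← map_mul, inv_mul_cancel, map_one]
  have hρne : ∀ t, ρ t ≠ 0 := fun t h => by
    have := hρinv t
    rw [h, mul_zero] at this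
    exact zero_ne_one this
  -- the basis
  let B : Q ⧸ S → Module.End K W := fun i => ρ i.out
  have hrep : ∀ t : Q, ∃ c : K, ρ t = c • B (QuotientGroup.mk t) := by
    intro t
    obtain ⟨s, hs⟩ := QuotientGroup.mk_out_eq_mul S t
    have hs' : ρ t = ρ ((QuotientGroup.mk t : Q ⧸ S).out) * ρ (s : Q)⁻¹ := by
      rw [← map_mul, hs, mul_inv_cancel_right]
    refine ⟨μ (s : Q)⁻¹, ?_⟩
    rw [hs', hμ _ (S.inv_mem s.2), mul_smul_comm, mul_one]
  have hind : LinearIndependent K B := by
    refine HHLinear.linearIndependent_of_eigen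
      (fun u : Q => LinearMap.mulLeft K (ρ u) * LinearMap.mulRight K (ρ u⁻¹)) B (fun i => hρne _)
      (fun i u => μ ⁅u, i.out⁆) (fun i u => ?_) ?_
    · change ρ u * (B i * ρ u⁻¹) = _
      rw [← map_mul, ← map_mul, show u * (i.out * u⁻¹) = ⁅u, i.out⁆ * i.out by
        rw [commutatorElement_def]; group, map_mul, hμ _ (hcomm _ _), smul_mul_assoc, one_mul]
    · intro i j hij
      rw [← i.out_eq', ← j.out_eq']
      refine QuotientGroup.eq.2 ?_
      suffices h : ∀ u, Commute (ρ (i.out⁻¹ * j.out)) (ρ u) by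
        obtain ⟨c, hc⟩ := hschur _ h
        exact hscal _ c hc
      intro u
      have h1 : μ ⁅u, i.out⁆ = μ ⁅u, j.out⁆ := congrFun hij u
      have e1 : ∀ t : Q, ρ u * ρ t = μ ⁅u, t⁆ • (ρ t * ρ u) := fun t => by
        rw [← map_mul, ← map_mul, show u * t = ⁅u, t⁆ * (t * u) by
          rw [commutatorElement_def]; group, map_mul, hμ _ (hcomm _ _), smul_mul_assoc, one_mul]
      have hc0 : μ ⁅u, i.out⁆ ≠ 0 := fun h0 => by
        have := hμ _ (hcomm u i.out)
        rw [h0, zero_smul] at this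
        exact hρne _ this
      have e2 : ρ i.out * (ρ u * ρ (i.out⁻¹ * j.out)) = ρ i.out * (ρ (i.out⁻¹ * j.out) * ρ u) := by
        refine smul_right_injective _ hc0 ?_
        change μ ⁅u, i.out⁆ • (ρ i.out * (ρ u * ρ (i.out⁻¹ * j.out))) =
          μ ⁅u, i.out⁆ • (ρ i.out * (ρ (i.out⁻¹ * j.out) * ρ u))
        rw [← mul_assoc, ← smul_mul_assoc, ← e1, mul_assoc, ← map_mul (ρ) i.out, mul_inv_cancel_left,
          e1, ← h1, ← mul_assoc (ρ i.out), ← map_mul (ρ) i.out, mul_inv_cancel_left]
      have := congrArg (fun F => ρ i.out⁻¹ * F) e2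
      simp only [← mul_assoc, hρinv, one_mul] at this
      exact this.symm
  have hBspan : ⊤ ≤ Submodule.span K (Set.range B) := by
    rw [← hspan, Submodule.span_le]
    rintro _ ⟨t, rfl⟩
    obtain ⟨c, hc⟩ := hrep t
    rw [hc]
    exact Submodule.smul_mem _ c (Submodule.subset_span ⟨_, rfl⟩)
  have : Fintype (Q ⧸ S) := Fintype.ofFinite _
  let b : Basis (Q ⧸ S) K (Module.End K W) := Basis.mk hind hBspan
  have hb : ∀ i, b i = B i := fun i => Basis.mk_apply _ _ i
  -- the automorphism induced by `θ`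
  let C₀ : Module.End K (Module.End K W) := b.constr K fun i => ρ (θ i.out)
  have hC₀ : ∀ t, C₀ (ρ t) = ρ (θ t) := by
    intro t
    obtain ⟨s, hs⟩ := QuotientGroup.mk_out_eq_mul S t
    set i : Q ⧸ S := QuotientGroup.mk t with hi
    have ht : t = i.out * (s : Q)⁻¹ := by rw [hs, mul_inv_cancel_right]
    have hθt : θ t = θ i.out * θ (s : Q)⁻¹ := by rw [← map_mul, ← ht]
    have hb' : C₀ (B i) = ρ (θ i.out) := by rw [← hb, Basis.constr_basis]
    rw [hθt, map_mul, hμ _ (hSθ _ (S.inv_mem s.2)), hμθ _ (S.inv_mem s.2), mul_smul_comm, mul_one,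
      ← hb', ← map_smul]
    congr 1
    conv_lhs => rw [ht, map_mul, hμ _ (S.inv_mem s.2), mul_smul_comm, mul_one]
  have hCmul : ∀ F G, C₀ (F * G) = C₀ F * C₀ G := by
    intro F G
    have hF : F ∈ Submodule.span K (Set.range ρ) := hspan ▸ Submodule.mem_top
    induction hF using Submodule.span_induction with
    | mem x hx =>
      obtain ⟨t, rfl⟩ := hx
      have hG : G ∈ Submodule.span K (Set.range ρ) := hspan ▸ Submodule.mem_top
      induction hG using Submodule.span_induction with
      | mem y hy => obtain ⟨u, rfl⟩ := hy; rw [← map_mul, hC₀, hC₀, hC₀, map_mul, map_mul]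
      | zero => simp
      | add y z _ _ hy hz => rw [mul_add, map_add, map_add, hy, hz, mul_add]
      | smul c y _ hy => rw [mul_smul_comm, map_smul, map_smul, hy, mul_smul_comm]
    | zero => simp
    | add y z _ _ hy hz => rw [add_mul, map_add, map_add, hy, hz, add_mul]
    | smul c y _ hy => rw [smul_mul_assoc, map_smul, map_smul, hy, smul_mul_assoc]
  have hC1 : C₀ 1 = 1 := by rw [← map_one ρ, hC₀, map_one]
  have hCpow : ∀ (k : ℕ) (t : Q), (C₀ ^ k) (ρ t) = ρ ((θ ^ k) t) := by
    intro k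
    induction k with
    | zero => simp
    | succ k ih =>
      intro t
      rw [pow_succ', Module.End.mul_apply, ih, hC₀, ← MulAut.mul_apply, ← pow_succ']
  have hCN : C₀ ^ N = 1 := b.ext fun i => by
    rw [hb, hCpow, hθ]; rfl
  have hCbij : Function.Bijective C₀ := by
    have h1 : N - 1 + 1 = N := by omega
    refine Function.bijective_iff_has_inverse.2 ⟨(C₀ ^ (N - 1) : Module.End K _), fun F => ?_, fun F => ?_⟩
    · rw [← Module.End.mul_apply, ← pow_succ, h1, hCN, Module.End.one_apply]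
    · rw [← Module.End.mul_apply, ← pow_succ', h1, hCN, Module.End.one_apply]
  obtain ⟨T, hT⟩ := (AlgEquiv.ofBijective (AlgHom.ofLinearMap C₀ hC1 hCmul) hCbij).eq_linearEquivConjAlgEquiv
  set g₀ : Module.End K W := T.toLinearMap with hg₀
  set g₀' : Module.End K W := T.symm.toLinearMap with hg₀'
  have h01 : g₀ * g₀' = 1 := LinearMap.ext fun w => T.apply_symm_apply w
  have h10 : g₀' * g₀ = 1 := LinearMap.ext fun w => T.symm_apply_apply w
  have hconjC : ∀ F, C₀ F = g₀ * F * g₀' := by
    intro F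
    have := congrArg (fun Φ : Module.End K W ≃ₐ[K] Module.End K W => Φ F) hT
    refine this.trans ?_
    refine LinearMap.ext fun w => ?_
    simp [LinearEquiv.conjAlgEquiv_apply, g₀, g₀']
  -- normalise
  have hCk : ∀ (k : ℕ) F, (C₀ ^ k) F = g₀ ^ k * F * g₀' ^ k := by
    intro k
    induction k with
    | zero => simp
    | succ k ih => intro F; rw [pow_succ', Module.End.mul_apply, ih, hconjC, pow_succ', pow_succ g₀']; simp [mul_assoc]
  have hcomm01 : Commute g₀ g₀' := by rw [Commute, SemiconjBy, h01, h10]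
  obtain ⟨c, hc⟩ := hschur (g₀ ^ N) fun t => by
    have h := hCk N (ρ t)
    rw [hCN, Module.End.one_apply] at h
    change g₀ ^ N * ρ t = ρ t * g₀ ^ N
    conv_rhs => rw [h, mul_assoc, ← hcomm01.symm.mul_pow, h10, one_pow, mul_one]
  have hc0 : c ≠ 0 := by
    rintro rfl
    have h := congrArg (fun F => F * g₀' ^ N) hc
    simp only [← hcomm01.mul_pow, h01, one_pow, zero_smul, zero_mul] at h
    exact one_ne_zero h
  obtain ⟨rt, hs⟩ := IsAlgClosed.exists_pow_nat_eq c (show 0 < N by omega)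
  have hs0 : rt ≠ 0 := by rintro rfl; rw [zero_pow (by omega)] at hs; exact hc0 hs.symm
  set g : Module.End K W := rt⁻¹ • g₀ with hg
  set g' : Module.End K W := rt • g₀' with hg'
  have hgg' : g * g' = 1 := by rw [hg, hg', smul_mul_smul_comm, h01, inv_mul_cancel₀ hs0, one_smul]
  have hg'g : g' * g = 1 := by rw [hg, hg', smul_mul_smul_comm, h10, mul_inv_cancel₀ hs0, one_smul]
  have hgN : g ^ N = 1 := by
    rw [hg, smul_pow, hc, inv_pow, hs, smul_smul, inv_mul_cancel₀ hc0, one_smul]
  have hCg : ∀ F, C₀ F = g * F * g' := fun F => by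
    rw [hconjC, hg, hg', smul_mul_assoc, smul_mul_smul_comm, inv_mul_cancel₀ hs0, one_smul]
  have hgρ : ∀ t, g * ρ t = ρ (θ t) * g := fun t => by
    rw [← hC₀, hCg, mul_assoc _ g' g, hg'g, mul_one]
  -- the permutation of the basis
  let σf : Q ⧸ S →* Q ⧸ S := QuotientGroup.map S S θ.toMonoidHom (fun s hs => hSθ s hs)
  have hσk : ∀ (k : ℕ) (t : Q), (σf^[k]) (QuotientGroup.mk t) = QuotientGroup.mk ((θ ^ k) t) := by
    intro k
    induction k with
    | zero => simp
    | succ k ih =>
      intro t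
      rw [Function.iterate_succ_apply', ih, pow_succ']
      rfl
  have hσN : ∀ i, (σf^[N]) i = i := fun i => by rw [← i.out_eq', hσk, hθ]; rfl
  have hσinj : Function.Injective σf := fun i j hij => by
    have h := congrArg (σf^[N - 1]) hij
    rw [← Function.iterate_succ_apply, ← Function.iterate_succ_apply,
      show (N - 1).succ = N by omega, hσN, hσN] at h
    exact h
  let σ : Equiv.Perm (Q ⧸ S) := Equiv.ofBijective σf (Finite.injective_iff_bijective.1 hσinj)
  have hσpow : ∀ (k : ℕ) i, (σ ^ k) i = (σf^[k]) i := fun k i => by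
    rw [Equiv.Perm.coe_pow]; rfl
  have hσN' : σ ^ N = 1 := Equiv.ext fun i => (hσpow N i).trans (hσN i)
  have hfree' : ∀ i : Q ⧸ S, i ≠ 1 → ∀ k l, k < N → l < N → (σ ^ k) i = (σ ^ l) i → k = l := by
    intro i hi
    suffices h : ∀ k l, l ≤ k → k < N → (σ ^ k) i = (σ ^ l) i → k = l by
      intro k l hk hl he
      rcases le_total l k with hle | hle
      · exact h k l hle hk he
      · exact (h l k hle hl he.symm).symm
    intro k l hle hk he
    by_contra hne
    have h : (σ ^ (k - l)) i = i := by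
      refine (σ ^ l).injective ?_
      rw [← Equiv.Perm.mul_apply, ← pow_add, Nat.add_sub_cancel' hle, he]
    rw [hσpow, ← i.out_eq', hσk] at h
    refine hfree i.out (fun hm => hi ?_) (k - l) (by omega) (by omega) ?_
    · rw [← i.out_eq']; exact (QuotientGroup.eq_one_iff _).2 hm
    · rw [← QuotientGroup.eq_one_iff, QuotientGroup.mk_mul, QuotientGroup.mk_inv, h, mul_inv_cancel]
  have hC0b : ∀ i, ∃ d : K, C₀ (b i) = d • b (σ i) := fun i => by
    rw [hb, hC₀]
    obtain ⟨d, hd⟩ := hrep (θ i.out)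
    refine ⟨d, ?_⟩
    rw [hd, hb]
    congr 2
    conv_rhs => rw [← i.out_eq']
    rfl
  obtain ⟨i₀, hi₀⟩ : ∃ i : Q ⧸ S, i ≠ 1 := by
    by_contra h
    push Not at h
    exact hS (eq_top_iff.2 fun t _ => (QuotientGroup.eq_one_iff t).1 (h _))
  clear_value g g'
  -- an equivariant embedding
  let U : Submodule K (W →ₗ[K] V) :=
    { carrier := {f | ∀ t, τ t ∘ₗ f = f ∘ₗ ρ t}
      add_mem' := fun {a b} ha hb t => by rw [LinearMap.comp_add, LinearMap.add_comp, ha t, hb t]
      zero_mem' := fun t => by simp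
      smul_mem' := fun c f hf t => by rw [LinearMap.comp_smul, LinearMap.smul_comp, hf t] }
  let Φ : Module.End K (W →ₗ[K] V) :=
    (LinearMap.llcomp K W V V X) * (LinearMap.lcomp K V g')
  have hΦ : ∀ f, Φ f = X ∘ₗ f ∘ₗ g' := fun f => rfl
  have hΦk : ∀ (k : ℕ) f, (Φ ^ k) f = (X ^ k) ∘ₗ f ∘ₗ (g' ^ k) := by
    intro k
    induction k with
    | zero => simp [Module.End.one_eq_id]
    | succ k ih =>
      intro f
      rw [pow_succ', Module.End.mul_apply, ih, hΦ, pow_succ' X, pow_succ g']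
      rfl
  have hg'N : g' ^ N = 1 := by
    have hc' : Commute g' g := by rw [Commute, SemiconjBy, hg'g, hgg']
    have := congrArg (fun F => g' ^ N * F) hgN
    simp only [← hc'.mul_pow, hg'g, one_pow, mul_one] at this
    exact this.symm
  have hΦN : Φ ^ N = 1 := LinearMap.ext fun f => by
    rw [hΦk, hX, hg'N]; rfl
  have hΦU : ∀ f ∈ U, Φ f ∈ U := by
    intro f hf t
    obtain ⟨t', rfl⟩ := θ.surjective t
    refine LinearMap.ext fun w => ?_
    have h1 : τ (θ t') (X (f (g' w))) = X (τ t' (f (g' w))) :=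
      (congrArg (fun F : Module.End K V => F (f (g' w))) (hconj t')).symm
    have h2 : g' * ρ (θ t') = ρ t' * g' := by
      calc g' * ρ (θ t') = g' * (ρ (θ t') * g) * g' := by rw [mul_assoc, mul_assoc, hgg', mul_one]
        _ = _ := by rw [← hgρ, ← mul_assoc g', hg'g, one_mul]
    change τ (θ t') (X (f (g' w))) = X (f (g' (ρ (θ t') w)))
    rw [h1, show g' (ρ (θ t') w) = ρ t' (g' w) from congrArg (fun F : Module.End K W => F w) h2]
    exact congrArg X (congrArg (fun F : W →ₗ[K] V => F (g' w)) (hf t'))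
  obtain ⟨ΦU, hΦU'⟩ : ∃ F : Module.End K U, ∀ f : U, ((F f : U) : W →ₗ[K] V) = Φ f :=
    ⟨Φ.restrict hΦU, fun f => rfl⟩
  have : Nontrivial U := ⟨⟨⟨ι, hint⟩, 0, fun h => hι (congrArg Subtype.val h)⟩⟩
  obtain ⟨lam, hlam⟩ := Module.End.exists_eigenvalue ΦU
  obtain ⟨⟨f, hfU⟩, hf, hfne⟩ := hlam.exists_hasEigenvector
  rw [Module.End.mem_eigenspace_iff] at hf
  have hΦf : Φ f = lam • f := by rw [← hΦU' ⟨f, hfU⟩, hf]; rfl
  have hf0 : f ≠ 0 := fun h => hfne (Subtype.ext h)
  have hΦkf : ∀ k : ℕ, (Φ ^ k) f = lam ^ k • f := by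
    intro k
    induction k with
    | zero => simp
    | succ k ih => rw [pow_succ', Module.End.mul_apply, ih, map_smul, hΦf, smul_smul, ← pow_succ]
  have hlamN : lam ^ N = 1 := by
    have h := hΦkf N
    rw [hΦN, Module.End.one_apply] at h
    exact smul_left_injective K hf0 ((h.symm).trans (one_smul K f).symm)
  have hlam0 : lam ≠ 0 := by rintro rfl; rw [zero_pow (by omega)] at hlamN; exact zero_ne_one hlamN
  have hXf : ∀ w, X (f w) = f ((lam • g) w) := fun w => by
    have := congrArg (fun F : W →ₗ[K] V => F (g w)) hΦf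
    rw [hΦ] at this
    simp only [LinearMap.comp_apply, LinearMap.smul_apply] at this
    rw [← Module.End.mul_apply g', hg'g, Module.End.one_apply] at this
    rw [this, LinearMap.smul_apply, map_smul]
  have hXk : ∀ (k : ℕ) w, (X ^ k) (f w) = f (((lam • g) ^ k) w) := by
    intro k
    induction k with
    | zero => simp
    | succ k ih =>
      intro w
      rw [pow_succ', Module.End.mul_apply, ih, hXf, pow_succ', Module.End.mul_apply]
  have hfinj : ∀ w, f w = 0 → w = 0 := by
    intro w hw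
    rcases hirr (LinearMap.ker f) (fun t v hv => by
      rw [LinearMap.mem_ker] at hv ⊢
      have := congrArg (fun F : W →ₗ[K] V => F v) (hfU t)
      simp only [LinearMap.comp_apply] at this
      rw [← this, hv, map_zero]) with h | h
    · exact (Submodule.mem_bot K).1 (h ▸ hw)
    · exact absurd (LinearMap.ker_eq_top.1 h) hf0
  obtain ⟨G, hG⟩ : ∃ F, F = lam • g := ⟨_, rfl⟩
  obtain ⟨G', hG'⟩ : ∃ F, F = lam⁻¹ • g' := ⟨_, rfl⟩
  simp only [← hG] at hXk
  have hGG' : G * G' = 1 := by rw [hG, hG', smul_mul_smul_comm, hgg', mul_inv_cancel₀ hlam0, one_smul]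
  have hGN : G ^ N = 1 := by rw [hG, smul_pow, hgN, hlamN, one_smul]
  have hCG : ∀ F, C₀ F = G * F * G' := fun F => by
    rw [hCg, hG, hG', smul_mul_assoc, smul_mul_smul_comm, mul_inv_cancel₀ hlam0, one_smul]
  have hGsum : ∑ i ∈ Finset.range N, X ^ i = 0 → ∑ i ∈ Finset.range N, G ^ i = 0 := fun hsum =>
    LinearMap.ext fun w => hfinj _ (by
      rw [LinearMap.sum_apply, map_sum]
      simp_rw [← hXk]
      rw [← LinearMap.sum_apply, hsum]
      rfl)
  -- a basis of eigenvectors of `G`
  have hss : G.IsSemisimple := by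
    refine Module.End.isSemisimple_of_squarefree_aeval_eq_zero
      (Polynomial.separable_X_pow_sub_C (1 : K) hrK one_ne_zero).squarefree ?_
    simp [hGN]
  have hspanG : ⊤ ≤ Submodule.span K {w : W | w ≠ 0 ∧ ∃ a : K, G w = a • w} := by
    rw [← Module.End.iSup_maxGenEigenspace_eq_top G, iSup_le_iff]
    intro a w hw
    rw [hss.isFinitelySemisimple.maxGenEigenspace_eq_eigenspace, Module.End.mem_eigenspace_iff] at hw
    by_cases h0 : w = 0
    · rw [h0]; exact Submodule.zero_mem _
    · exact Submodule.subset_span ⟨h0, a, hw⟩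
  let be := Basis.ofSpan hspanG
  have hbev : ∀ i, be i ≠ 0 ∧ ∃ a : K, G (be i) = a • be i := fun i =>
    Basis.ofSpan_subset hspanG ⟨i, rfl⟩
  choose hb0 ev hev using hbev
  have hGk : ∀ (k : ℕ) i, (G ^ k) (be i) = ev i ^ k • be i := by
    intro k
    induction k with
    | zero => simp
    | succ k ih => intro i; rw [pow_succ', Module.End.mul_apply, ih, map_smul, hev, smul_smul, ← pow_succ]
  have hevN : ∀ i, ev i ^ N = 1 := fun i => by
    have h := hGk N i
    rw [hGN, Module.End.one_apply] at h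
    exact smul_left_injective K (hb0 i) (h.symm.trans (one_smul K _).symm)
  have hev0 : ∀ i, ev i ≠ 0 := fun i h => by
    have := hevN i
    rw [h, zero_pow (by omega)] at this
    exact zero_ne_one this
  have hev1 : ∑ i ∈ Finset.range N, X ^ i = 0 → ∀ i, ev i ≠ 1 := fun hsum i h => by
    have := congrArg (fun F : Module.End K W => F (be i)) (hGsum hsum)
    simp only [LinearMap.sum_apply, hGk, h, one_pow, one_smul, Finset.sum_const, Finset.card_range,
      LinearMap.zero_apply, ← Nat.cast_smul_eq_nsmul K] at this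
    exact (smul_ne_zero hrK (hb0 i)) this
  have : Fintype _ := FiniteDimensional.fintypeBasisIndex be
  have hG'be : ∀ i, G' (be i) = (ev i)⁻¹ • be i := fun i => by
    have hG'G : G' * G = 1 := by rw [hG, hG', smul_mul_smul_comm, hg'g, inv_mul_cancel₀ hlam0, one_smul]
    have := congrArg (fun F : Module.End K W => F (be i)) hG'G
    simp only [Module.End.mul_apply, hev, map_smul, Module.End.one_apply] at this
    rw [eq_comm, ← smul_right_injective W (hev0 i) |>.eq_iff, smul_smul, mul_inv_cancel₀ (hev0 i), one_smul]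
    exact this.symm
  have hunit : ∀ ij, C₀ (be.end ij) = (ev ij.1 * (ev ij.2)⁻¹) • be.end ij := fun ij => be.ext fun k => by
    rw [hCG, Module.End.mul_apply, Module.End.mul_apply, hG'be, map_smul, LinearMap.smul_apply,
      Basis.end_apply_apply]
    split_ifs with hk
    · rw [map_smul, hev, smul_smul, hk, mul_comm]
    · rw [smul_zero, map_zero, smul_zero]
  -- representatives of the free orbits
  let rep : Q ⧸ S → Q ⧸ S := fun i => (Quotient.mk (Equiv.Perm.SameCycle.setoid σ) i).out
  let D : Finset (Q ⧸ S) := Finset.univ.filter fun i => i ≠ 1 ∧ rep i = i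
  have hσ1 : ∀ k : ℕ, (σ ^ k) (1 : Q ⧸ S) = 1 := fun k => by
    rw [hσpow]; exact Function.iterate_fixed (map_one σf) k
  have horb : ∀ i, ∃ k < N, (σ ^ k) (rep i) = i := fun i => by
    have hsc : Equiv.Perm.SameCycle σ (rep i) i :=
      Quotient.exact (Quotient.out_eq (Quotient.mk (Equiv.Perm.SameCycle.setoid σ) i))
    obtain ⟨z, hz⟩ := hsc.exists_nat_pow_eq
    refine ⟨z % N, Nat.mod_lt _ (by omega), ?_⟩
    rw [← Nat.mod_add_div z N, pow_add, pow_mul, hσN', one_pow, mul_one] at hz
    exact hz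
  have hrepD : ∀ i, i ≠ 1 → rep i ∈ D := fun i hi => by
    refine Finset.mem_filter.2 ⟨Finset.mem_univ _, fun h => hi ?_, ?_⟩
    · obtain ⟨k, -, hk⟩ := horb i
      rw [← hk, h, hσ1]
    · change (Quotient.mk _ (rep i)).out = rep i
      rw [Quotient.out_eq]
  have hrepσ : ∀ (k : ℕ) d, d ∈ D → rep ((σ ^ k) d) = d := fun k d hd => by
    refine Eq.trans ?_ (Finset.mem_filter.1 hd).2.2
    exact congrArg Quotient.out (Quotient.sound
      ((Equiv.Perm.sameCycle_pow_left).2 (Equiv.Perm.SameCycle.refl _ _)))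
  have hDcard : N * D.card + 1 = Nat.card (Q ⧸ S) := by
    rw [Nat.card_eq_fintype_card, ← Finset.card_univ,
      ← Finset.card_erase_add_one (Finset.mem_univ (1 : Q ⧸ S))]
    congr 1
    rw [← Finset.card_range N, ← Finset.card_product]
    refine Finset.card_bij (fun a _ => (σ ^ a.1) a.2) ?_ ?_ ?_
    · rintro ⟨k, d⟩ h
      refine Finset.mem_erase.2 ⟨fun hk => (Finset.mem_filter.1 (Finset.mem_product.1 h).2).2.1 ?_,
        Finset.mem_univ _⟩
      exact (σ ^ k).injective (hk.trans (hσ1 k).symm)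
    · rintro ⟨k, d⟩ h ⟨k', d'⟩ h' heq
      simp only [Finset.mem_product, Finset.mem_range] at h h'
      have hd : d = d' := by
        have := congrArg rep heq
        rwa [hrepσ k d h.2, hrepσ k' d' h'.2] at this
      subst hd
      rw [hfree' d (Finset.mem_filter.1 h.2).2.1 k k' h.1 h'.1 heq]
    · intro i hi
      obtain ⟨k, hk, hki⟩ := horb i
      exact ⟨⟨k, rep i⟩, Finset.mem_product.2 ⟨Finset.mem_range.2 hk, hrepD i (Finset.ne_of_mem_erase hi)⟩, hki⟩
  have hrecur : ∀ (F : Module.End K W) (a : K) i, C₀ F = a • F →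
      ∃ d : K, C₀ (b i) = d • b (σ i) ∧ a * b.repr F (σ i) = d * b.repr F i := by
    intro F a i hF
    obtain ⟨d, hd⟩ := hC0b i
    refine ⟨d, hd, ?_⟩
    have hall : ∀ j, ∃ d : K, C₀ (b j) = d • b (σ j) := hC0b
    choose dd hdd using hall
    have hsum' : C₀ F = ∑ j, (b.repr F j * dd j) • b (σ j) := by
      conv_lhs => rw [← b.sum_repr F, map_sum]
      simp [hdd, smul_smul]
    have h := congrArg (fun T => b.repr T (σ i)) hsum'
    simp only [hF, map_sum, map_smul, Finsupp.coe_finset_sum, Finset.sum_apply, Finsupp.smul_apply,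
      Basis.repr_self, smul_eq_mul] at h
    rw [Finset.sum_eq_single i (fun j _ hj => by
      rw [Finsupp.single_eq_of_ne (fun h => hj (σ.injective h).symm), mul_zero])
      (fun h => absurd (Finset.mem_univ i) h), Finsupp.single_eq_same, mul_one] at h
    have hdi : dd i = d := smul_left_injective K (b.ne_zero (σ i)) ((hdd i).symm.trans hd)
    rw [h, hdi, mul_comm]
  have hdet : ∀ (F : Module.End K W) (a : K), a ≠ 0 → C₀ F = a • F → (∀ d ∈ D, b.repr F d = 0) →
      b.repr F 1 = 0 → F = 0 := by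
    intro F a ha hF hD h1
    refine b.repr.injective (Finsupp.ext fun i => ?_)
    rw [map_zero, Finsupp.zero_apply]
    by_cases hi : i = 1
    · rwa [hi]
    obtain ⟨k, -, hk⟩ := horb i
    rw [← hk]
    clear hk
    induction k with
    | zero => simpa using hD _ (hrepD i hi)
    | succ k ih =>
      obtain ⟨d, -, hd⟩ := hrecur F a ((σ ^ k) (rep i)) hF
      rw [ih, mul_zero, mul_eq_zero] at hd
      rw [pow_succ', Equiv.Perm.mul_apply]
      exact hd.resolve_left ha
  have hB1 : C₀ (b 1) = b 1 := by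
    rw [hb]
    change C₀ (ρ _) = ρ _
    have h : (1 : Q ⧸ S).out ∈ S := by rw [← QuotientGroup.eq_one_iff]; exact (1 : Q ⧸ S).out_eq'
    rw [hμ _ h, map_smul, hC1]
  have hone : ∀ (F : Module.End K W) (a : K), a ≠ 1 → C₀ F = a • F → b.repr F 1 = 0 := by
    intro F a ha hF
    obtain ⟨d, hd, hd'⟩ := hrecur F a 1 hF
    have h1 : σ (1 : Q ⧸ S) = 1 := by simpa using hσ1 1
    rw [hB1, h1] at hd
    have hd1 : d = 1 := smul_left_injective K (b.ne_zero 1) (hd.symm.trans (one_smul K (b 1)).symm)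
    rw [h1, hd1] at hd'
    exact (mul_eq_mul_right_iff.1 hd').resolve_left ha
  -- counting eigenvalues
  let ω := Polynomial.nthRootsFinset N (1 : K)
  let P : K → Finset (_ × _) := fun a => Finset.univ.filter fun ij => ev ij.1 = a * ev ij.2
  have hEig : ∀ a, a ≠ 0 → (P a).card ≤ D.card + if a = 1 then 1 else 0 := by
    intro a ha
    let E := Module.End.eigenspace C₀ a
    have hmem : ∀ x ∈ P a, be.end x ∈ E := fun x hx => by
      rw [Module.End.mem_eigenspace_iff, hunit, (Finset.mem_filter.1 hx).2, mul_assoc,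
        mul_inv_cancel₀ (hev0 _), mul_one]
    have hli : LinearIndependent K fun x : P a => (⟨be.end x, hmem x x.2⟩ : E) :=
      LinearIndependent.of_comp E.subtype (be.end.linearIndependent.comp _ Subtype.val_injective)
    have h1 : (P a).card ≤ finrank K E := by simpa using hli.fintype_card_le_finrank
    let D' : Finset (Q ⧸ S) := if a = 1 then insert 1 D else D
    let L : E →ₗ[K] (D' → K) :=
      { toFun := fun F d => b.repr (F : Module.End K W) d
        map_add' := fun F F' => funext fun d => by simp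
        map_smul' := fun c F => funext fun d => by simp }
    have hL : Function.Injective L := by
      rw [injective_iff_map_eq_zero]
      rintro ⟨F, hF⟩ hF0
      rw [Module.End.mem_eigenspace_iff] at hF
      refine Subtype.ext (hdet F a ha hF (fun d hd => ?_) ?_)
      · exact congrFun hF0 ⟨d, by simp only [D']; split_ifs <;> simp [hd]⟩
      · by_cases h : a = 1
        · exact congrFun hF0 ⟨1, by simp only [D', if_pos h]; simp⟩
        · exact hone F a h hF
    refine h1.trans ((LinearMap.finrank_le_finrank_of_injective hL).trans ?_)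
    rw [Module.finrank_fintype_fun_eq_card, Fintype.card_coe]
    simp only [D']
    split_ifs <;> simp [Finset.card_insert_le]
  have hωcard : ω.card = N := by
    have := NeZero.mk hrK
    obtain ⟨z, hz⟩ := HasEnoughRootsOfUnity.exists_primitiveRoot K N
    exact hz.card_nthRootsFinset
  have hω : ∀ a, a ∈ ω ↔ a ^ N = 1 := fun a => Polynomial.mem_nthRootsFinset (by omega) 1
  have hω1 : (1 : K) ∈ ω := (hω 1).2 (one_pow N)
  have hP1 : ∀ a ∈ ω, a ≠ 0 := fun a ha h => by
    rw [hω, h, zero_pow (by omega)] at ha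
    exact zero_ne_one ha
  have hdim := finrank_eq_card_basis be
  have hcount : finrank K W * finrank K W = ∑ a ∈ ω, (P a).card := by
    rw [hdim, ← Fintype.card_prod, ← Finset.card_univ, Finset.card_eq_sum_card_fiberwise (f := fun ij => ev ij.1 * (ev ij.2)⁻¹) (t := ω)
      fun ij _ => by rw [Finset.mem_coe, hω, mul_pow, inv_pow, hevN, hevN, inv_one, one_mul]]
    refine Finset.sum_congr rfl fun a _ => congrArg Finset.card (Finset.filter_congr fun ij _ => ?_)
    rw [mul_inv_eq_iff_eq_mul₀ (hev0 _)]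
  have hcard : finrank K W * finrank K W = Nat.card (Q ⧸ S) := by
    rw [← Module.finrank_linearMap (R := K) (S := K) (M := W) (N := W), finrank_eq_card_basis b,
      Nat.card_eq_fintype_card]
  have hP : (P 1).card = D.card + 1 := by
    refine le_antisymm (by simpa using hEig 1 one_ne_zero) ?_
    have h := hcount
    rw [← Finset.add_sum_erase ω _ hω1, hcard, ← hDcard] at h
    have h' : ∑ a ∈ ω.erase 1, (P a).card ≤ (N - 1) * D.card := by
      refine (Finset.sum_le_card_nsmul _ _ _ fun a ha => ?_).trans (by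
        rw [Finset.card_erase_of_mem hω1, hωcard, smul_eq_mul])
      have := hEig a (hP1 a (Finset.mem_of_mem_erase ha))
      rwa [if_neg (Finset.ne_of_mem_erase ha), add_zero] at this
    rw [Nat.sub_mul, one_mul] at h'
    have := Nat.le_mul_of_pos_left D.card (show 0 < N by omega)
    omega
  let m : K → ℕ := fun a => (Finset.univ.filter fun i => ev i = a).card
  have hmaps : ∀ i, ev i ∈ ω := fun i => (hω _).2 (hevN i)
  have hm1 : ∑ a ∈ ω, m a = finrank K W := by
    rw [hdim, ← Finset.card_univ,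
      Finset.card_eq_sum_card_fiberwise (f := ev) (t := ω) fun i _ => hmaps i]
  have hm2 : ∑ a ∈ ω, m a ^ 2 = D.card + 1 := by
    rw [← hP, Finset.card_eq_sum_card_fiberwise (f := fun ij => ev ij.1) (t := ω)
      fun ij _ => hmaps ij.1]
    refine Finset.sum_congr rfl fun a _ => ?_
    rw [sq, ← Finset.card_product]
    refine congrArg Finset.card (Finset.ext fun ij => ?_)
    simp only [P, Finset.mem_product, Finset.mem_filter, Finset.mem_univ, true_and, one_mul]
    constructor
    · rintro ⟨h, h'⟩; exact ⟨h.trans h'.symm, h⟩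
    · rintro ⟨h, h'⟩; exact ⟨h', h ▸ h'⟩
  have hd2 : 2 ≤ finrank K W := by
    by_contra h
    have h1 : finrank K W = 1 := le_antisymm (by omega) Module.finrank_pos
    rw [h1] at hcard
    have : Subsingleton (Q ⧸ S) := (Nat.card_eq_one_iff_unique.1 (by simpa using hcard.symm)).1
    exact hi₀ (Subsingleton.elim _ _)
  refine ⟨ω, m, finrank K W, D.card, hωcard, hω1, hd2, hcard, by rw [hcard, hDcard], hm1, hm2,
    fun hsum => Finset.card_eq_zero.2 (Finset.filter_eq_empty_iff.2 fun i _ => hev1 hsum i),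
    f, fun x y hxy => sub_eq_zero.1 (hfinj _ (by rw [map_sub, hxy, sub_self])), hfU, fun a _ hma => ?_⟩
  obtain ⟨i, hi⟩ := Finset.card_pos.1 hma
  refine ⟨be i, hb0 i, ?_⟩
  have h1 := hXk 1 (be i)
  rw [pow_one, pow_one, hev, (Finset.mem_filter.1 hi).2, map_smul] at h1
  exact h1

end Cfsg.Agent.Gross
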