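import Cfsg.Agent.Lib.Gross.Stage
import Cfsg.Agent.Lib.Gross.Arith

/-! The moved part of a weight has rank two. -/

set_option autoImplicit false
open scoped commutatorElement

namespace Cfsg.Agent.Gross

open ShultGross (form form_swap form_central form_mul_left form_mul_right form_congr form_one_left
  radical)

variable {K : Type*} [Field K] [IsAlgClosed K] {V : Type*} [AddCommGroup V] [Module K V]
  [FiniteDimensional K V]

theorem eq_one_of_sq {A : Type*} [Monoid A] {a : A} (h2 : a * a = 1) {m : ℕ} (hm : Odd m)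
    (h : a ^ m = 1) : a = 1 := by
  obtain ⟨k, rfl⟩ := hm
  rwa [pow_succ, pow_mul, sq, h2, one_pow, one_mul] at h

theorem center_le_radical {Q : Type*} [Group Q] {A : Type*} [CommGroup A]
    (hQZ : ∀ u t : Q, ⁅u, t⁆ ∈ Subgroup.center Q) (lam : Subgroup.center Q →* A) :
    Subgroup.center Q ≤ radical hQZ lam := fun c hc w => by
  rw [form_swap, form_central _ _ _ hc, inv_one]

theorem rad_pair {R : Type*} [Group R] [Finite R] {r n : ℕ} (hr : r.Prime) (hr2 : r ≠ 2) (hn : 1 ≤ n)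
    (h2K : (2 : K) ≠ 0) (hR : IsPGroup r R) (θ : MulAut R) (hθ : θ ^ 2 ^ n = 1)
    (ρ : R →* Module.End K V) (X : Module.End K V) (hX : X ^ 2 ^ n = 1)
    (hsum : ∑ i ∈ Finset.range (2 ^ n), X ^ i = 0) (hconj : ∀ t, X * ρ t = ρ (θ t) * X)
    (hRZ : ∀ u t : R, ⁅u, t⁆ ∈ Subgroup.center R)
    (hyZ : ∀ z ∈ Subgroup.center R, (θ ^ 2 ^ (n - 1)) z = z)
    (lam : Subgroup.center R →* Kˣ) (W₀ : Submodule K V) (hW₀ : W₀ ≠ ⊥)
    (hW₀i : ∀ t, ∀ v ∈ W₀, ρ t v ∈ W₀)
    (hW₀z : ∀ c : Subgroup.center R, ∀ v ∈ W₀, ρ (c : R) v = (lam c : K) • v)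
    (hmove : ∃ x, (θ ^ 2 ^ (n - 1)) x * x⁻¹ ∉ radical hRZ lam) :
    ∃ s₁ s₂ : R, form hRZ lam s₁ s₂ ≠ 1 ∧
      ∀ x, (θ ^ 2 ^ (n - 1)) x * x ∈ radical hRZ lam →
        ∃ i j : ℤ, x * (s₁ ^ i * s₂ ^ j)⁻¹ ∈ radical hRZ lam := by
  classical
  haveI := Fact.mk hr
  set y : MulAut R := θ ^ 2 ^ (n - 1) with hy
  have hyy : ∀ t, y (y t) = t := fun t => by
    rw [hy, ← MulAut.mul_apply, ← pow_add, ← two_mul, ← pow_succ', Nat.sub_add_cancel hn, hθ]; rfl
  have hnorm : ∀ t ∈ radical hRZ lam, ∀ g : R, g * t * g⁻¹ ∈ radical hRZ lam := fun t ht g => by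
    rw [show g * t * g⁻¹ = ⁅g, t⁆ * t by rw [commutatorElement_def]; group]
    exact Subgroup.mul_mem _ (center_le_radical hRZ lam (hRZ g t)) ht
  let S : Subgroup R :=
    { carrier := {x | y x * x ∈ radical hRZ lam}
      one_mem' := by simp
      mul_mem' := fun {a b} ha hb => by
        change y (a * b) * (a * b) ∈ radical hRZ lam
        rw [map_mul, show y a * y b * (a * b) = (y a * a) * ((a⁻¹ * (y b) * a * (y b)⁻¹) * (y b * b)) by
          group]
        refine Subgroup.mul_mem _ ha (Subgroup.mul_mem _ (center_le_radical hRZ lam ?_) hb)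
        have h := hRZ a⁻¹ (y b)
        rwa [commutatorElement_def, inv_inv] at h
      inv_mem' := fun {a} ha => by
        change y a⁻¹ * a⁻¹ ∈ radical hRZ lam
        rw [map_inv, show (y a)⁻¹ * a⁻¹ = (a * (y a * a) * a⁻¹)⁻¹ by group]
        exact Subgroup.inv_mem _ (hnorm _ ha a) }
  have hform_y : ∀ s t, form hRZ lam (y s) (y t) = form hRZ lam s t := fun s t =>
    congrArg lam (Subtype.ext ((map_commutatorElement y s t).symm.trans (hyZ _ (hRZ s t))))
  have hrady : ∀ t ∈ radical hRZ lam, y t ∈ radical hRZ lam := fun t ht w => by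
    obtain ⟨w', rfl⟩ := y.surjective w
    rw [hform_y]; exact ht w'
  have hradS : radical hRZ lam ≤ S := fun t ht => Subgroup.mul_mem _ (hrady t ht) ht
  have hoddcard : Odd (Nat.card R) := by
    obtain ⟨k, hk⟩ := hR.exists_card_eq
    rw [hk]; exact (hr.odd_of_ne_two hr2).pow
  have hformpow : ∀ u t : R, ∀ k : ℕ, form hRZ lam (u ^ k) t = form hRZ lam u t ^ k := by
    intro u t k
    induction k with
    | zero => rw [pow_zero, pow_zero, form_one_left]
    | succ k ih => rw [pow_succ, form_mul_left, ih, pow_succ]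
  have hformtor : ∀ u t : R, form hRZ lam u t ^ Nat.card R = 1 := fun u t => by
    rw [← hformpow, pow_card_eq_one', form_one_left]
  have hnd : ∀ x ∈ S, (∀ w ∈ S, form hRZ lam w x = 1) → x ∈ radical hRZ lam := by
    intro x hx hort w
    obtain ⟨k, hk⟩ := hoddcard
    obtain ⟨z, rfl⟩ : ∃ z, z * z = w :=
      ⟨w ^ (k + 1), by
        rw [← pow_add, show k + 1 + (k + 1) = Nat.card R + 1 by omega, pow_succ, pow_card_eq_one',
          one_mul]⟩
    rw [show z * z = (z * (y z)⁻¹) * (y z * z) by group, form_mul_left,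
      hort _ (by
        change y (z * (y z)⁻¹) * (z * (y z)⁻¹) ∈ radical hRZ lam
        rw [map_mul, map_inv, hyy]
        simp [mul_assoc]), one_mul]
    have hc : (y z * z)⁻¹ * y (y z * z) ∈ Subgroup.center R := by
      rw [map_mul, hyy, show (y z * z)⁻¹ * (z * y z) = z⁻¹ * (y z)⁻¹ * z⁻¹⁻¹ * (y z)⁻¹⁻¹ by group,
        ← commutatorElement_def]
      exact hRZ _ _
    have h1 : form hRZ lam (y z * z) x = form hRZ lam (y z * z) (y x) := by
      rw [← hform_y (y z * z) x]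
      exact form_congr hRZ lam _ _ hc (by simp)
    have h2 : form hRZ lam (y z * z) (y x * x) = 1 := hx _
    rw [form_mul_right, ← h1] at h2
    exact eq_one_of_sq h2 ⟨k, hk⟩ (hformtor _ _)
  have hSne : ∃ x ∈ S, x ∉ radical hRZ lam := by
    obtain ⟨x, hx⟩ := hmove
    refine ⟨_, ?_, hx⟩
    change y (y x * x⁻¹) * (y x * x⁻¹) ∈ radical hRZ lam
    rw [map_mul, hyy, map_inv]
    simp [mul_assoc]
  have hyS : ∀ s ∈ S, y s * s⁻¹ ∈ radical hRZ lam → s ∈ radical hRZ lam := by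
    intro s hs hys
    have h : s * s ∈ radical hRZ lam := by
      have := Subgroup.mul_mem _ (Subgroup.inv_mem _ hys) hs
      rwa [mul_inv_rev, inv_inv, mul_assoc, inv_mul_cancel_left] at this
    intro w
    have := h w
    rw [form_mul_right] at this
    exact eq_one_of_sq this hoddcard (hformtor _ _)
  obtain ⟨e, ω, m, N, M, he, -, hωc, hω1, hN2, hNR, hNM, hm1, hm2, hm0, -⟩ :=
    stage (p := 2) Nat.prime_two hn h2K θ hθ ρ X hX hsum hconj hRZ lam W₀ hW₀ hW₀i hW₀z S hradS hnd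
      hSne (fun k hk s hs => by
        change y ((θ ^ k) s) * (θ ^ k) s ∈ radical hRZ lam
        rw [hy, ← MulAut.mul_apply, pow_mul_comm, MulAut.mul_apply, ← map_mul]
        exact hk _ hs)
      hyS
  obtain ⟨he2, hNe, -⟩ := two_arith (ω.erase 1) m he
    (by rw [Finset.card_erase_add_one hω1, hωc])
    (by rw [← hm1, ← Finset.add_sum_erase ω m hω1, hm0, zero_add])
    (by rw [← hm2, ← Finset.add_sum_erase ω (fun a => m a ^ 2) hω1]; simp [hm0])
    hNM hN2
  set T := (radical hRZ lam).subgroupOf S with hT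
  haveI hTn : T.Normal := ⟨fun t ht g => by
    rw [hT, Subgroup.mem_subgroupOf] at ht ⊢
    exact hnorm _ ht _⟩
  have hcomm : ∀ a b : S ⧸ T, a * b = b * a := fun a b => by
    obtain ⟨a, rfl⟩ := QuotientGroup.mk_surjective a
    obtain ⟨b, rfl⟩ := QuotientGroup.mk_surjective b
    rw [← QuotientGroup.mk_mul, ← QuotientGroup.mk_mul]
    refine QuotientGroup.eq.2 ?_
    rw [hT, Subgroup.mem_subgroupOf]
    refine center_le_radical hRZ lam ?_
    rw [show (((a * b)⁻¹ * (b * a) : S) : R) = ⁅((b : R))⁻¹, ((a : R))⁻¹⁆ by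
      simp only [Subgroup.coe_mul, Subgroup.coe_inv, commutatorElement_def]; group]
    exact hRZ _ _
  letI : CommGroup (S ⧸ T) := { (inferInstance : Group (S ⧸ T)) with mul_comm := hcomm }
  have hq : Nat.card (S ⧸ T) = N * N := by rw [hNR]; rfl
  have hqp : IsPGroup r (S ⧸ T) := (hR.to_subgroup S).to_quotient T
  obtain ⟨k, hk⟩ := hqp.exists_card_eq
  obtain ⟨d, -, hd⟩ := (Nat.dvd_prime_pow hr).1 (Dvd.intro N (hq.symm.trans hk) : N ∣ r ^ k)
  have hd1 : d = 1 := odd_pow_arith (Nat.odd_iff.1 (hr.odd_of_ne_two hr2)) hr.two_le he2 (hd ▸ hNe)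
  rw [hd1, pow_one] at hd
  obtain ⟨s₁, hs₁, hs₁R⟩ := hSne
  obtain ⟨s₂, hs₂, hs12⟩ : ∃ s₂ ∈ S, form hRZ lam s₁ s₂ ≠ 1 := by
    by_contra hcon
    push Not at hcon
    exact hs₁R (hnd s₁ hs₁ fun w hw => by rw [form_swap, hcon w hw, inv_one])
  refine ⟨s₁, s₂, hs12, fun x hx => ?_⟩
  set a : S ⧸ T := ((⟨s₁, hs₁⟩ : S) : S ⧸ T) with ha
  set b : S ⧸ T := ((⟨s₂, hs₂⟩ : S) : S ⧸ T) with hb
  have hba : b ∉ Subgroup.zpowers a := by
    rintro ⟨i, hi⟩
    apply hs12
    have hi' := QuotientGroup.eq.1 (show ((⟨s₁, hs₁⟩ ^ i : S) : S ⧸ T) = ((⟨s₂, hs₂⟩ : S) : S ⧸ T) from hi)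
    rw [hT, Subgroup.mem_subgroupOf, Subgroup.coe_mul, Subgroup.coe_inv, Subgroup.coe_zpow] at hi'
    let χ : R →* Kˣ := MonoidHom.mk' (fun w => form hRZ lam s₁ w) (form_mul_right hRZ lam s₁)
    have h1 : form hRZ lam s₁ (s₁ ^ i) = 1 := by
      change χ (s₁ ^ i) = 1
      rw [map_zpow]
      have : χ s₁ = 1 := by
        change lam _ = 1
        rw [← map_one lam]
        exact congrArg lam (Subtype.ext (commutatorElement_self s₁))
      rw [this, one_zpow]
    have h2 := hi' s₁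
    rw [show s₂ = s₁ ^ i * ((s₁ ^ i)⁻¹ * s₂) by group, form_mul_right, h1, h2, one_mul]
  have hane : a ≠ 1 := fun h => hs₁R (by
    have := (QuotientGroup.eq_one_iff _).1 h
    rwa [hT, Subgroup.mem_subgroupOf] at this)
  set U := Subgroup.closure ({a, b} : Set (S ⧸ T)) with hU
  have haU : Subgroup.zpowers a ≤ U := Subgroup.zpowers_le.2 (Subgroup.subset_closure (by simp))
  have hUtop : U = ⊤ := by
    refine Subgroup.eq_top_of_card_eq _ ?_
    have hcard2 : Nat.card (S ⧸ T) = r ^ 2 := by rw [hq, hd, sq]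
    obtain ⟨i, hi2, hi⟩ := (Nat.dvd_prime_pow hr).1 (hcard2 ▸ Subgroup.card_subgroup_dvd_card U)
    obtain ⟨j, hj2, hj⟩ := (Nat.dvd_prime_pow hr).1
      (hcard2 ▸ Subgroup.card_subgroup_dvd_card (Subgroup.zpowers a))
    have hj0 : j ≠ 0 := fun h => hane (by
      rw [h, pow_zero, Subgroup.card_eq_one, Subgroup.zpowers_eq_bot] at hj
      exact hj)
    have hlt : j < i := by
      refine lt_of_le_of_ne ((Nat.pow_le_pow_iff_right hr.one_lt).1 ?_) fun h => hba ?_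
      · rw [← hi, ← hj]
        exact Nat.le_of_dvd Nat.card_pos (Subgroup.card_dvd_of_le haU)
      · rw [Subgroup.eq_of_le_of_card_ge haU (by rw [hi, hj, h])]
        exact Subgroup.subset_closure (by simp)
    rw [hi, hcard2, show i = 2 by omega]
  obtain ⟨i, j, hij⟩ := Subgroup.mem_closure_pair.1
    (show (((⟨x, hx⟩ : S) : S ⧸ T)) ∈ U from hUtop ▸ Subgroup.mem_top _)
  refine ⟨i, j, ?_⟩
  rw [ha, hb] at hij
  have h := QuotientGroup.eq.1 (show ((⟨s₁, hs₁⟩ ^ i * ⟨s₂, hs₂⟩ ^ j : S) : S ⧸ T) = _ from hij)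
  rw [hT, Subgroup.mem_subgroupOf, Subgroup.coe_mul, Subgroup.coe_inv, Subgroup.coe_mul,
    Subgroup.coe_zpow, Subgroup.coe_zpow] at h
  have h' := hnorm _ h (s₁ ^ i * s₂ ^ j)
  rwa [show s₁ ^ i * s₂ ^ j * ((s₁ ^ i * s₂ ^ j)⁻¹ * x) * (s₁ ^ i * s₂ ^ j)⁻¹ =
    x * (s₁ ^ i * s₂ ^ j)⁻¹ by group] at h'

end Cfsg.Agent.Gross
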