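import Cfsg.Agent.Lib.Gross.Module
import Cfsg.Agent.S3794

/-! The theorem of Gross. -/

set_option autoImplicit false
open scoped commutatorElement

universe u

namespace Cfsg.Agent.Gross

open ShultGross (exists_res exists_quot quot_fpf mem_char coprime_card)

/-- Two invariant Sylow subgroups under a fixed point free operator coincide. -/
theorem sylow_unique {G : Type*} [Group G] [Finite G] {p : ℕ} [Fact p.Prime] (σ : MulAut G)
    (hfpf : ∀ t, σ t = t → t = 1) (P₁ P₂ : Sylow p G)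
    (h1 : ∀ x ∈ (P₁ : Subgroup G), σ x ∈ (P₁ : Subgroup G))
    (h2 : ∀ x ∈ (P₂ : Subgroup G), σ x ∈ (P₂ : Subgroup G)) : P₁ = P₂ := by
  obtain ⟨g, hg⟩ := MulAction.exists_smul_eq G P₁ P₂
  have hmem : ∀ x, x ∈ (P₂ : Subgroup G) ↔ g⁻¹ * x * g ∈ (P₁ : Subgroup G) := fun x => by
    rw [← hg, Sylow.coe_subgroup_smul, Subgroup.mem_pointwise_smul_iff_inv_smul_mem,
      ← map_inv, MulAut.smul_def, MulAut.conj_apply, inv_inv]
  have e1 := ShultGross.map_eq_of_mem σ _ h1
  have e2 := ShultGross.map_eq_of_mem σ _ h2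
  have hN : ∀ x ∈ Subgroup.normalizer ((P₁ : Subgroup G) : Set G),
      σ x ∈ Subgroup.normalizer ((P₁ : Subgroup G) : Set G) := by
    intro x hx
    rw [Subgroup.mem_normalizer_iff] at hx ⊢
    intro z
    obtain ⟨z, rfl⟩ := σ.surjective z
    have hiff : ∀ w, σ w ∈ (P₁ : Subgroup G) ↔ w ∈ (P₁ : Subgroup G) := fun w =>
      ⟨fun h => by
        rw [← e1] at h
        exact (Subgroup.mem_map_iff_mem σ.injective).1 h, h1 w⟩
    rw [← map_inv, ← map_mul, ← map_mul, hiff, hiff]
    exact hx z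
  have hu : σ g⁻¹ * g⁻¹⁻¹ ∈ Subgroup.normalizer ((P₁ : Subgroup G) : Set G) := by
    rw [Subgroup.mem_normalizer_iff]
    intro z
    rw [inv_inv, map_inv]
    have hA : z ∈ (P₁ : Subgroup G) ↔ g * z * g⁻¹ ∈ (P₂ : Subgroup G) := by
      rw [hmem]; simp [mul_assoc]
    rw [hA]
    obtain ⟨w, hw⟩ := σ.surjective (g * z * g⁻¹)
    have h2iff : ∀ w, σ w ∈ (P₂ : Subgroup G) ↔ w ∈ (P₂ : Subgroup G) := fun w =>
      ⟨fun h => by
        rw [← e2] at h
        exact (Subgroup.mem_map_iff_mem σ.injective).1 h, h2 w⟩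
    have h1iff : ∀ w, σ w ∈ (P₁ : Subgroup G) ↔ w ∈ (P₁ : Subgroup G) := fun w =>
      ⟨fun h => by
        rw [← e1] at h
        exact (Subgroup.mem_map_iff_mem σ.injective).1 h, h1 w⟩
    rw [show (σ g)⁻¹ * g * z * ((σ g)⁻¹ * g)⁻¹ = (σ g)⁻¹ * (g * z * g⁻¹) * σ g by group, ← hw,
      h2iff, hmem, ← map_inv, ← map_mul, ← map_mul, h1iff]
  have hg' := ShultGross.mem_of_moved_mem σ hfpf _ hN hu
  rw [inv_mem_iff] at hg'
  rw [← hg]
  exact (Sylow.smul_eq_iff_mem_normalizer.2 hg').symm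

/-- The basic commutation of Sylow subgroups normalising each other. -/
theorem key_rw {G : Type u} [Group G] [Finite G] {n r q : ℕ} (hn : 1 ≤ n) (hr : r.Prime)
    (hq : q.Prime) (hrq : r ≠ q) (hG : Group.IsSolvable G) (σ : MulAut G) (hσ : σ ^ 2 ^ n = 1)
    (hfpf : ∀ t, σ t = t → t = 1) (R Q : Subgroup G) (hR : IsPGroup r R) (hQ : IsPGroup q Q)
    (hRinv : ∀ x ∈ R, σ x ∈ R) (hQinv : ∀ x ∈ Q, σ x ∈ Q)
    (hQR : Q ≤ Subgroup.normalizer (R : Set G)) {t : G} (ht : t ∈ Q) {x : G} (hx : x ∈ R) :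
    ⁅x, t⁻¹ * (σ ^ 2 ^ (n - 1)) t⁆ ∈ Cfsg.pCore r G := by
  classical
  haveI := hG
  haveI := Fact.mk hr
  set P := Cfsg.pCore r G with hPdef
  haveI : P.Normal := FittingCores.pCore_normal r
  obtain ⟨σb, hσb, hσbk⟩ := exists_quot σ P (fun z hz => mem_char σ (FittingCores.pCore_characteristic r) hz)
  have hσbn : σb ^ 2 ^ n = 1 := MulEquiv.ext fun z => by
    obtain ⟨z, rfl⟩ := QuotientGroup.mk_surjective z
    rw [hσbk, hσ]; rfl
  have hfb : ∀ z, σb z = z → z = 1 := fun z hz =>
    quot_fpf σ hfpf P (fun z hz => mem_char σ (FittingCores.pCore_characteristic r) hz) σb hσb z hz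
  set w := t⁻¹ * (σ ^ 2 ^ (n - 1)) t with hw
  have hwQ : w ∈ Q := Subgroup.mul_mem _ (Subgroup.inv_mem _ ht) (pow_mem_of_mem hQinv _ t ht)
  set c := ⁅x, w⁆ with hc
  have hcR : c ∈ R := by
    rw [hc, commutatorElement_def, show x * w * x⁻¹ * w⁻¹ = x * (w * x⁻¹ * w⁻¹) by group]
    exact R.mul_mem hx ((Subgroup.mem_normalizer_iff.1 (hQR hwQ) x⁻¹).1 (R.inv_mem hx))
  have hrF : (Nat.card (Cfsg.fittingSubgroup (G ⧸ P))).Coprime r := by
    have h := FittingCores.fitting_le_pCore_sup_pPrimeCore (G := G ⧸ P) hr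
    rw [show Cfsg.pCore r (G ⧸ P) = ⊥ from PBasic.pCore_quotient_pCore r G, bot_sup_eq] at h
    exact (FittingCores.pPrimeCore_coprime r).coprime_dvd_left (Subgroup.card_dvd_of_le h)
  have hkey : ∀ s : ℕ, s.Prime →
      (c : G ⧸ P) ∈ Subgroup.centralizer ((Cfsg.pCore s (G ⧸ P) : Subgroup (G ⧸ P)) : Set (G ⧸ P)) := by
    intro s hs
    haveI := Fact.mk hs
    set O := Cfsg.pCore s (G ⧸ P) with hOdef
    haveI : O.Normal := FittingCores.pCore_normal s
    have hO : IsPGroup s O := FittingCores.pCore_isPGroup s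
    by_cases hsr : s = r
    · have hO1 : O = ⊥ := by
        rw [hOdef]; subst hsr; exact PBasic.pCore_quotient_pCore s G
      rw [hO1]
      exact Subgroup.mem_centralizer_iff.2 fun z hz => by
        rw [Subgroup.mem_bot.1 hz, one_mul, mul_one]
    by_cases hs2 : s = 2
    · subst hs2
      obtain ⟨σO, hσO, hσOk⟩ := exists_res σb O
        (fun z hz => mem_char σb (FittingCores.pCore_characteristic 2) hz)
      have hall := eq_one_of_two hO (coprime_card Nat.prime_two σO
        (MulEquiv.ext fun z => Subtype.ext (by rw [hσOk, hσbn]; rfl))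
        (fun z hz => Subtype.ext (hfb _ ((hσO z).symm.trans (congrArg Subtype.val hz)))))
      exact Subgroup.mem_centralizer_iff.2 fun z hz => by
        rw [show z = 1 from congrArg Subtype.val (hall ⟨z, hz⟩), one_mul, mul_one]
    have hOinv : ∀ z ∈ O, σb z ∈ O := fun z hz => mem_char σb (FittingCores.pCore_characteristic s) hz
    obtain ⟨σO, hσO, hσOk⟩ := exists_res σb O hOinv
    haveI : Group.IsNilpotent O := hO.isNilpotent
    letI instC : CommGroup (O ⧸ frattini O) :=
      { (inferInstance : Group (O ⧸ frattini O)) with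
        mul_comm := fun a b => by
          obtain ⟨a, rfl⟩ := QuotientGroup.mk_surjective a
          obtain ⟨b, rfl⟩ := QuotientGroup.mk_surjective b
          rw [← commutatorElement_eq_one_iff_mul_comm, ← QuotientGroup.coe_mk' (frattini O),
            ← map_commutatorElement]
          exact (QuotientGroup.eq_one_iff _).2 (SolvStruct.commutator_le_frattini _
            (Subgroup.commutator_mem_commutator (Subgroup.mem_top a) (Subgroup.mem_top b))) }
    letI instM : Module (ZMod s) (Additive (O ⧸ frattini O)) := AddCommGroup.zmodModule fun v => by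
      obtain ⟨a, ha⟩ := QuotientGroup.mk_surjective (Additive.toMul v)
      change Additive.ofMul ((Additive.toMul v) ^ s) = 0
      rw [← ha, ← QuotientGroup.mk_pow,
        (QuotientGroup.eq_one_iff _).2 (PGroupBasics.pow_mem_frattini hO a)]
      rfl
    have hΦ : ∀ φ : MulAut O, (frattini O).map φ.toMonoidHom = frattini O := fun φ =>
      Subgroup.characteristic_iff_map_eq.1 inferInstance φ
    let desc : MulAut O →* MulAut (O ⧸ frattini O) :=
      { toFun := fun φ => QuotientGroup.congr (frattini O) (frattini O) φ (hΦ φ)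
        map_one' := MulEquiv.ext fun a => by
          obtain ⟨a, rfl⟩ := QuotientGroup.mk_surjective a
          rfl
        map_mul' := fun φ ψ => MulEquiv.ext fun a => by
          obtain ⟨a, rfl⟩ := QuotientGroup.mk_surjective a
          rfl }
    let β : G →* MulAut (O ⧸ frattini O) :=
      desc.comp ((MulAut.conjNormal (H := O)).comp (QuotientGroup.mk' P))
    have hconj : ∀ g, desc σO * β g = β (σ g) * desc σO := fun g => by
      change desc σO * desc _ = desc _ * desc σO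
      rw [← map_mul, ← map_mul]
      refine congrArg desc (MulEquiv.ext fun a => Subtype.ext ?_)
      simp only [MulAut.mul_apply, MonoidHom.comp_apply, MulAut.conjNormal_apply, hσO,
        QuotientGroup.mk'_apply, map_mul, map_inv, hσb]
    obtain ⟨K, iF, iA, iC, U, iU1, iU2, iU3, τ, T, hker, hT, hsum, hTc⟩ :=
      CoprimeFree.linearise (p := s) (r := 2 ^ n) (O ⧸ frattini O) (desc σO) β σ
        (by rw [← map_pow, show σO ^ 2 ^ n = 1 from
          MulEquiv.ext fun z => Subtype.ext (by rw [hσOk, hσbn]; rfl), map_one])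
        (fun a ha => quot_fpf σO
          (fun z hz => Subtype.ext (hfb _ ((hσO z).symm.trans (congrArg Subtype.val hz))))
          (frattini O) (fun z hz => mem_char σO inferInstance hz) (desc σO) (fun z => rfl) a ha)
        hconj
    obtain ⟨θR, hθR, hθRk⟩ := exists_res σ R hRinv
    obtain ⟨θQ, hθQ, hθQk⟩ := exists_res σ Q hQinv
    let act : Q →* MulAut R := R.normalizerMonoidHom.comp (Subgroup.inclusion hQR)
    have hact : ∀ (a : Q) (b : R), ((act a b : R) : G) = a * b * (a : G)⁻¹ := fun a b => rfl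
    have h := module_top (K := K) (V := U) hn (CoprimeFree.natCast_ne_zero (p := s) Nat.prime_two hs2)
      (Nat.card R + Nat.card Q) (R := R) (Q := Q) le_rfl hr hq hrq
      (CoprimeFree.natCast_ne_zero (p := s) hr hsr) hR hQ θR θQ
      (MulEquiv.ext fun z => Subtype.ext (by rw [hθRk, hσ]; rfl))
      (MulEquiv.ext fun z => Subtype.ext (by rw [hθQk, hσ]; rfl))
      (fun z hz => Subtype.ext (hfpf _ ((hθR z).symm.trans (congrArg Subtype.val hz))))
      (fun z hz => Subtype.ext (hfpf _ ((hθQ z).symm.trans (congrArg Subtype.val hz))))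
      act (fun a b => Subtype.ext (by rw [hθR, hact, hact, hθQ, hθR, map_mul, map_mul, map_inv]))
      (τ.comp R.subtype) T hT hsum
      (fun b => by rw [MonoidHom.comp_apply, MonoidHom.comp_apply, Subgroup.coe_subtype, hθR, hTc])
      (fun a b hb => by
        rw [MonoidHom.comp_apply, Subgroup.coe_subtype] at hb ⊢
        rw [hact, map_mul, map_mul, hb, mul_one, ← map_mul, mul_inv_cancel, map_one])
      ⟨t, ht⟩ ⟨x⁻¹, R.inv_mem hx⟩
    have hwc : (((⟨t, ht⟩ : Q)⁻¹ * (θQ ^ 2 ^ (n - 1)) ⟨t, ht⟩ : Q) : G) = w := by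
      rw [Subgroup.coe_mul, Subgroup.coe_inv, hθQk]
    change τ ((((⟨t, ht⟩ : Q)⁻¹ * (θQ ^ 2 ^ (n - 1)) ⟨t, ht⟩ : Q) : G) * x⁻¹ *
      ((((⟨t, ht⟩ : Q)⁻¹ * (θQ ^ 2 ^ (n - 1)) ⟨t, ht⟩ : Q) : G))⁻¹) = τ x⁻¹ at h
    rw [hwc] at h
    have hβc : β c = 1 := by
      rw [hc, commutatorElement_def, show x * w * x⁻¹ * w⁻¹ = x * (w * x⁻¹ * w⁻¹) by group, map_mul,
        hker _ _ h, ← map_mul, mul_inv_cancel, map_one]
    refine (?_ : Subgroup.zpowers (c : G ⧸ P) ≤ _) (Subgroup.mem_zpowers _)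
    refine CoprimeAct.le_centralizer_of_frattini ?_ ?_ fun a ha k hk => ?_
    · rw [Subgroup.normalizer_eq_top]; exact le_top
    · obtain ⟨i, hi⟩ : ∃ i, Nat.card (Subgroup.zpowers (c : G ⧸ P)) = r ^ i :=
        ((hR.map (QuotientGroup.mk' P)).to_le
          (Subgroup.zpowers_le.2 ⟨c, hcR, rfl⟩)).exists_card_eq
      obtain ⟨j, hj⟩ := (hO.to_subgroup (frattini O)).exists_card_eq
      rw [hi, hj]
      exact Nat.coprime_pow_primes i j hr hs (fun h => hsr h.symm)
    · obtain ⟨m, rfl⟩ := Subgroup.mem_zpowers_iff.1 ha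
      have h1 : β (c ^ m) = 1 := by rw [map_zpow, hβc, one_zpow]
      have h2 := congrArg (fun F : MulAut (O ⧸ frattini O) => F ((⟨k, hk⟩ : O) : O ⧸ frattini O)) h1
      refine ⟨MulAut.conjNormal ((c ^ m : G) : G ⧸ P) ⟨k, hk⟩ * (⟨k, hk⟩ : O)⁻¹, ?_, ?_⟩
      · rw [SetLike.mem_coe, ← QuotientGroup.eq_one_iff, QuotientGroup.mk_mul, QuotientGroup.mk_inv,
          mul_inv_eq_one]
        exact h2
      · rw [Subgroup.coe_subtype, Subgroup.coe_mul, Subgroup.coe_inv, MulAut.conjNormal_apply,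
          QuotientGroup.mk_zpow]
  have hcen : (c : G ⧸ P) ∈ Subgroup.centralizer (Cfsg.fittingSubgroup (G ⧸ P) : Set (G ⧸ P)) := by
    have hle : Cfsg.fittingSubgroup (G ⧸ P) ≤ Subgroup.centralizer ({(c : G ⧸ P)} : Set (G ⧸ P)) := by
      rw [FittingCores.fitting_eq_iSup_pCore]
      refine iSup_le fun ⟨s, hs⟩ => fun z hz => Subgroup.mem_centralizer_iff.2 fun a ha => ?_
      rw [Set.mem_singleton_iff.1 ha]
      exact (Subgroup.mem_centralizer_iff.1 (hkey s hs) z hz).symm
    exact Subgroup.mem_centralizer_iff.2 fun z hz =>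
      (Subgroup.mem_centralizer_iff.1 (hle hz) _ rfl).symm
  have hmem := FittingCores.centralizer_fitting_le hcen
  obtain ⟨k, hk⟩ := hR.exists_card_eq
  refine (QuotientGroup.eq_one_iff c).1 (orderOf_eq_one_iff.1 (Nat.Coprime.eq_one_of_dvd
    ((hrF.pow_right k).coprime_dvd_left (Subgroup.orderOf_dvd_natCard _ hmem)) ?_))
  exact (orderOf_map_dvd (QuotientGroup.mk' P) c).trans (hk ▸ Subgroup.orderOf_dvd_natCard _ hcR)

/-- The moved elements vanish above the Fitting subgroup in a quotient without `q`-core. -/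
theorem crit {G : Type u} [Group G] [Finite G] {n q : ℕ} (hn : 1 ≤ n) [Fact q.Prime]
    (hG : Group.IsSolvable G) (σ : MulAut G) (hσ : σ ^ 2 ^ n = 1) (hfpf : ∀ t, σ t = t → t = 1)
    (M : Subgroup G) [M.Normal] (hMinv : ∀ x ∈ M, σ x ∈ M) (hFM : Cfsg.fittingSubgroup G ≤ M)
    (hO : Cfsg.pCore q (G ⧸ M) = ⊥) (Q : Sylow q G) (hQinv : ∀ x ∈ (Q : Subgroup G), σ x ∈ (Q : Subgroup G))
    {t : G} (ht : t ∈ (Q : Subgroup G)) : t⁻¹ * (σ ^ 2 ^ (n - 1)) t ∈ M := by
  classical
  haveI := hG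
  obtain ⟨σb, hσb, hσbk⟩ := exists_quot σ M hMinv
  have hfb : ∀ z, σb z = z → z = 1 := fun z hz => quot_fpf σ hfpf M hMinv σb hσb z hz
  set w := t⁻¹ * (σ ^ 2 ^ (n - 1)) t with hw
  have hwQ : w ∈ (Q : Subgroup G) :=
    Subgroup.mul_mem _ (Subgroup.inv_mem _ ht) (pow_mem_of_mem hQinv _ t ht)
  have hcen : (w : G ⧸ M) ∈ Subgroup.centralizer (Cfsg.fittingSubgroup (G ⧸ M) : Set (G ⧸ M)) := by
    have hle : Cfsg.fittingSubgroup (G ⧸ M) ≤ Subgroup.centralizer ({(w : G ⧸ M)} : Set (G ⧸ M)) := by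
      rw [FittingCores.fitting_eq_iSup_pCore]
      refine iSup_le fun ⟨r, hr⟩ => fun h hh => Subgroup.mem_centralizer_iff.2 fun a ha => ?_
      rw [Set.mem_singleton_iff.1 ha]
      haveI := Fact.mk hr
      by_cases hrq : r = q
      · subst hrq
        rw [hO, Subgroup.mem_bot] at hh
        rw [hh, one_mul, mul_one]
      set O := Cfsg.pCore r (G ⧸ M) with hOdef
      haveI : O.Normal := FittingCores.pCore_normal r
      have hOinv : ∀ z ∈ O, σb z ∈ O := fun z hz => mem_char σb (FittingCores.pCore_characteristic r) hz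
      set L := O.comap (QuotientGroup.mk' M) with hLdef
      haveI : L.Normal := Subgroup.Normal.comap inferInstance _
      have hLinv : ∀ z ∈ L, σ z ∈ L := fun z hz => by
        rw [hLdef, Subgroup.mem_comap, QuotientGroup.mk'_apply] at hz ⊢
        rw [← hσb]; exact hOinv _ hz
      obtain ⟨σL, hσL, -⟩ := exists_res σ L hLinv
      obtain ⟨P, hP⟩ := Cfsg.Agent.S0031.result σL
        (fun z hz => Subtype.ext (hfpf _ ((hσL z).symm.trans (congrArg Subtype.val hz)))) r
      set R : Subgroup G := (P : Subgroup L).map L.subtype with hRdef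
      have hR : IsPGroup r R := P.isPGroup'.map _
      have hRinv : ∀ z ∈ R, σ z ∈ R := by
        rintro _ ⟨z, hz, rfl⟩
        exact ⟨σL z, hP.le ⟨z, hz, rfl⟩, hσL z⟩
      let f : L →* O := ((QuotientGroup.mk' M).comp L.subtype).codRestrict O fun z => z.2
      have hf : Function.Surjective f := by
        rintro ⟨z, hz⟩
        obtain ⟨a, rfl⟩ := QuotientGroup.mk_surjective z
        exact ⟨⟨a, hz⟩, rfl⟩
      have hPO : (P.mapSurjective hf : Subgroup O) = ⊤ :=
        ((P.mapSurjective hf).is_maximal'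
          ((FittingCores.pCore_isPGroup (G := G ⧸ M) r).of_equiv Subgroup.topEquiv.symm) le_top).symm
      obtain ⟨x, hx, hxh⟩ : (⟨h, hh⟩ : O) ∈ (P : Subgroup L).map f := by
        rw [← Sylow.coe_mapSurjective hf, hPO]; exact Subgroup.mem_top _
      have hxh' : ((x : G) : G ⧸ M) = h := congrArg Subtype.val hxh
      have hxR : (x : G) ∈ R := ⟨x, hx, rfl⟩
      set N := Subgroup.normalizer (R : Set G) with hNdef
      have hNinv : ∀ z ∈ N, σ z ∈ N := by
        intro z hz
        rw [hNdef, Subgroup.mem_normalizer_iff] at hz ⊢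
        intro b
        obtain ⟨b, rfl⟩ := σ.surjective b
        have hiff : ∀ a, σ a ∈ R ↔ a ∈ R := fun a =>
          ⟨fun h' => by
            rw [← ShultGross.map_eq_of_mem σ R hRinv] at h'
            exact (Subgroup.mem_map_iff_mem σ.injective).1 h', hRinv a⟩
        rw [← map_inv, ← map_mul, ← map_mul, hiff, hiff]
        exact hz b
      have hNM : ∀ g : G, ∃ a ∈ N, ((a : G) : G ⧸ M) = g := by
        intro g
        have hg : g ∈ N ⊔ L := by
          rw [hNdef, hRdef, Sylow.normalizer_sup_eq_top P]; exact Subgroup.mem_top g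
        rw [← SetLike.mem_coe, Subgroup.mul_normal] at hg
        obtain ⟨a, ha, l, hl, rfl⟩ := hg
        obtain ⟨⟨b, hb⟩, hbP, hbl⟩ : (f ⟨l, hl⟩) ∈ (P : Subgroup L).map f := by
          rw [← Sylow.coe_mapSurjective hf, hPO]; exact Subgroup.mem_top _
        refine ⟨a * b, N.mul_mem ha (Subgroup.le_normalizer ⟨⟨b, hb⟩, hbP, rfl⟩), ?_⟩
        rw [QuotientGroup.mk_mul, QuotientGroup.mk_mul,
          show ((b : G) : G ⧸ M) = l from congrArg Subtype.val hbl]
      obtain ⟨σN, hσN, -⟩ := exists_res σ N hNinv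
      obtain ⟨PN, hPN⟩ := Cfsg.Agent.S0031.result σN
        (fun z hz => Subtype.ext (hfpf _ ((hσN z).symm.trans (congrArg Subtype.val hz)))) q
      let g : N →* G ⧸ M := (QuotientGroup.mk' M).comp N.subtype
      have hg : Function.Surjective g := fun z => by
        obtain ⟨z, rfl⟩ := QuotientGroup.mk_surjective z
        obtain ⟨a, ha, hae⟩ := hNM z
        exact ⟨⟨a, ha⟩, hae⟩
      have heq : PN.mapSurjective hg = Q.mapSurjective (QuotientGroup.mk'_surjective M) := by
        refine sylow_unique σb hfb _ _ ?_ ?_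
        · rintro _ ⟨z, hz, rfl⟩
          exact ⟨σN z, hPN.le ⟨z, hz, rfl⟩, by
            change ((σN z : G) : G ⧸ M) = σb ((z : G) : G ⧸ M)
            rw [hσb, hσN]⟩
        · rintro _ ⟨z, hz, rfl⟩
          exact ⟨σ z, hQinv z hz, (hσb z).symm⟩
      obtain ⟨⟨t', ht'N⟩, ht', ht'e⟩ : (t : G ⧸ M) ∈ ((PN.mapSurjective hg : Sylow q (G ⧸ M)) : Subgroup (G ⧸ M)) := by
        rw [heq]; exact ⟨t, ht, rfl⟩
      have hkr := key_rw hn hr (Fact.out : q.Prime) hrq hG σ hσ hfpf R ((PN : Subgroup N).map N.subtype)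
        hR (PN.isPGroup'.map _) hRinv
        (by
          rintro _ ⟨z, hz, rfl⟩
          exact ⟨σN z, hPN.le ⟨z, hz, rfl⟩, hσN z⟩)
        (Subgroup.map_subtype_le _) (t := t') ⟨⟨t', ht'N⟩, ht', rfl⟩ hxR
      have hmem : ⁅(x : G), t'⁻¹ * (σ ^ 2 ^ (n - 1)) t'⁆ ∈ M :=
        hFM (FittingCores.pCore_le_fitting hr hkr)
      have h1 : ⁅h, (w : G ⧸ M)⁆ = 1 := by
        have h2 := (QuotientGroup.eq_one_iff _).2 hmem
        rw [← QuotientGroup.mk'_apply, map_commutatorElement, QuotientGroup.mk'_apply,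
          QuotientGroup.mk'_apply, hxh', QuotientGroup.mk_mul, QuotientGroup.mk_inv, ← hσbk] at h2
        rw [hw, QuotientGroup.mk_mul, QuotientGroup.mk_inv, ← hσbk,
          ← show (t' : G ⧸ M) = t from ht'e]
        exact h2
      exact (commutatorElement_eq_one_iff_mul_comm.1 h1).symm
    exact Subgroup.mem_centralizer_iff.2 fun z hz =>
      (Subgroup.mem_centralizer_iff.1 (hle hz) _ rfl).symm
  have hmem := FittingCores.centralizer_fitting_le hcen
  have hcop : (Nat.card (Cfsg.fittingSubgroup (G ⧸ M))).Coprime q := by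
    have h := FittingCores.fitting_le_pCore_sup_pPrimeCore (G := G ⧸ M) (Fact.out : q.Prime)
    rw [hO, bot_sup_eq] at h
    exact (FittingCores.pPrimeCore_coprime q).coprime_dvd_left (Subgroup.card_dvd_of_le h)
  obtain ⟨k, hk⟩ := Q.isPGroup'.exists_card_eq
  refine (QuotientGroup.eq_one_iff w).1 (orderOf_eq_one_iff.1 (Nat.Coprime.eq_one_of_dvd
    ((hcop.pow_right k).coprime_dvd_left (Subgroup.orderOf_dvd_natCard _ hmem)) ?_))
  exact (orderOf_map_dvd (QuotientGroup.mk' M) w).trans (hk ▸ Subgroup.orderOf_dvd_natCard _ hwQ)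

/-- The top power of the operator is trivial modulo the second Fitting subgroup. -/
theorem top_mem_fitting₂ {G : Type u} [Group G] [Finite G] {n : ℕ} (hn : 1 ≤ n)
    (hG : Group.IsSolvable G) (σ : MulAut G) (hσ : σ ^ 2 ^ n = 1) (hfpf : ∀ t, σ t = t → t = 1)
    (F : Subgroup G) [F.Normal] (hF : F = Cfsg.fittingSubgroup G) (t : G) :
    ((t⁻¹ * (σ ^ 2 ^ (n - 1)) t : G) : G ⧸ F) ∈ Cfsg.fittingSubgroup (G ⧸ F) := by
  classical
  haveI := hG
  haveI : (Cfsg.fittingSubgroup (G ⧸ F)).Normal := FittingCores.fitting_normal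
  set y := σ ^ 2 ^ (n - 1) with hy
  let S : Subgroup G :=
    { carrier := {t | ((t⁻¹ * y t : G) : G ⧸ F) ∈ Cfsg.fittingSubgroup (G ⧸ F)}
      one_mem' := by simp
      mul_mem' := fun {a b} ha hb => by
        change (((a * b)⁻¹ * y (a * b) : G) : G ⧸ F) ∈ Cfsg.fittingSubgroup (G ⧸ F)
        rw [map_mul, mul_inv_rev, show b⁻¹ * a⁻¹ * (y a * y b) =
          b⁻¹ * (a⁻¹ * y a) * b⁻¹⁻¹ * (b⁻¹ * y b) by group, QuotientGroup.mk_mul]
        refine Subgroup.mul_mem _ ?_ hb
        rw [QuotientGroup.mk_mul, QuotientGroup.mk_mul, QuotientGroup.mk_inv _ b⁻¹]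
        exact (inferInstance : (Cfsg.fittingSubgroup (G ⧸ F)).Normal).conj_mem _ ha _
      inv_mem' := fun {a} ha => by
        change (((a⁻¹)⁻¹ * y a⁻¹ : G) : G ⧸ F) ∈ Cfsg.fittingSubgroup (G ⧸ F)
        rw [map_inv, show a⁻¹⁻¹ * (y a)⁻¹ = a * (a⁻¹ * y a)⁻¹ * a⁻¹ by group, QuotientGroup.mk_mul,
          QuotientGroup.mk_mul, QuotientGroup.mk_inv, QuotientGroup.mk_inv _ a]
        exact (inferInstance : (Cfsg.fittingSubgroup (G ⧸ F)).Normal).conj_mem _
          (Subgroup.inv_mem _ ha) _ }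
  suffices hS : S = ⊤ from (hS ▸ Subgroup.mem_top t : t ∈ S)
  refine FittingCores.eq_top_of_forall_sylow_le fun q hq => ?_
  haveI := Fact.mk hq
  obtain ⟨P, hP⟩ := Cfsg.Agent.S0031.result σ (fun g hg => hfpf g hg) q
  refine ⟨P, fun s hs => ?_⟩
  have hinv : ∀ x ∈ (P : Subgroup G), σ x ∈ (P : Subgroup G) := fun x hx => hP.le ⟨x, hx, rfl⟩
  set O := Cfsg.pCore q (G ⧸ F) with hOdef
  haveI : O.Normal := FittingCores.pCore_normal q
  have hFinv : ∀ x ∈ F, σ x ∈ F := fun x hx => by
    subst hF; exact mem_char σ FittingCores.fitting_characteristic hx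
  obtain ⟨σb, hσb, -⟩ := exists_quot σ F hFinv
  set M := O.comap (QuotientGroup.mk' F) with hMdef
  haveI : M.Normal := Subgroup.Normal.comap inferInstance _
  have hMinv : ∀ x ∈ M, σ x ∈ M := fun z hz => by
    rw [hMdef, Subgroup.mem_comap, QuotientGroup.mk'_apply] at hz ⊢
    rw [← hσb]
    exact mem_char σb (FittingCores.pCore_characteristic q) hz
  have hFM : F ≤ M := fun z hz => by
    rw [hMdef, Subgroup.mem_comap, QuotientGroup.mk'_apply, (QuotientGroup.eq_one_iff z).2 hz]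
    exact one_mem _
  have hO : Cfsg.pCore q (G ⧸ M) = ⊥ := by
    let π : G ⧸ F →* G ⧸ M := QuotientGroup.map F M (MonoidHom.id G) hFM
    have hπ : Function.Surjective π := fun z => by
      obtain ⟨a, rfl⟩ := QuotientGroup.mk_surjective z
      exact ⟨(a : G ⧸ F), rfl⟩
    have hker : π.ker ≤ O := fun z hz => by
      obtain ⟨a, rfl⟩ := QuotientGroup.mk_surjective z
      exact (QuotientGroup.eq_one_iff a).1 hz
    haveI : (Cfsg.pCore q (G ⧸ M)).Normal := FittingCores.pCore_normal q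
    have hle : (Cfsg.pCore q (G ⧸ M)).comap π ≤ O :=
      le_sSup ⟨Subgroup.Normal.comap inferInstance _,
        (FittingCores.pCore_isPGroup q).comap_of_ker_isPGroup π
          ((FittingCores.pCore_isPGroup q).to_le hker)⟩
    refine (Subgroup.eq_bot_iff_forall _).2 fun z hz => ?_
    obtain ⟨a, rfl⟩ := hπ z
    obtain ⟨b, rfl⟩ := QuotientGroup.mk_surjective a
    exact (QuotientGroup.eq_one_iff b).2 (hle hz)
  have h := crit hn hG σ hσ hfpf M hMinv (hF ▸ hFM) hO P hinv hs
  exact FittingCores.pCore_le_fitting hq h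

/-- The Fitting height of a group with a fixed point free operator of order dividing `2 ^ n`. -/
theorem fitting_height : ∀ (k : ℕ) {G : Type u} [Group G] [Finite G], Group.IsSolvable G →
    ∀ (σ : MulAut G), σ ^ 2 ^ (k + 2) = 1 → (∀ t, σ t = t → t = 1) →
    ∃ F : Fin (2 * k + 2 + 1) → Subgroup G, F 0 = ⊥ ∧ F (Fin.last (2 * k + 2)) = ⊤ ∧ Monotone F ∧
      (∀ i, (F i).Normal) ∧
      ∀ i : Fin (2 * k + 2), ∃ l : ℕ, (F i.succ).lowerCentralSeries l ≤ F i.castSucc := by
  intro k
  induction k with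
  | zero =>
    intro G _ _ hG σ hσ hfpf
    have hnil := Cfsg.Agent.S3794.result hG σ (by simpa using hσ) hfpf
    refine ⟨![⊥, commutator G, ⊤], rfl, rfl, ?_, ?_, ?_⟩
    · refine Fin.monotone_iff_le_succ.2 fun i => ?_
      fin_cases i
      · exact bot_le
      · exact le_top
    · intro i
      fin_cases i
      · exact (inferInstance : (⊥ : Subgroup G).Normal)
      · exact (inferInstance : (commutator G).Normal)
      · exact (inferInstance : (⊤ : Subgroup G).Normal)
    · intro i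
      fin_cases i
      · obtain ⟨l, hl⟩ := (Subgroup.isNilpotent_iff_lowerCentralSeries _).1 hnil
        exact ⟨l, hl.le⟩
      · refine ⟨1, ?_⟩
        change (⊤ : Subgroup G).lowerCentralSeries 1 ≤ commutator G
        rw [commutator_def]
        exact le_of_eq (by rfl)
  | succ k ih =>
    intro G _ _ hG σ hσ hfpf
    haveI := hG
    set F := Cfsg.fittingSubgroup G with hF
    haveI : F.Normal := FittingCores.fitting_normal
    have hFinv : ∀ x ∈ F, σ x ∈ F := fun x hx => mem_char σ FittingCores.fitting_characteristic hx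
    set F₂ := (Cfsg.fittingSubgroup (G ⧸ F)).comap (QuotientGroup.mk' F) with hF₂
    haveI : (Cfsg.fittingSubgroup (G ⧸ F)).Normal := FittingCores.fitting_normal
    haveI : F₂.Normal := Subgroup.Normal.comap inferInstance _
    have hFF₂ : F ≤ F₂ := fun z hz => by
      rw [hF₂, Subgroup.mem_comap, QuotientGroup.mk'_apply, (QuotientGroup.eq_one_iff z).2 hz]
      exact one_mem _
    obtain ⟨σa, hσa, -⟩ := exists_quot σ F hFinv
    have hF₂inv : ∀ x ∈ F₂, σ x ∈ F₂ := fun z hz => by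
      rw [hF₂, Subgroup.mem_comap, QuotientGroup.mk'_apply] at hz ⊢
      rw [← hσa]
      exact mem_char σa FittingCores.fitting_characteristic hz
    obtain ⟨σb, hσb, hσbk⟩ := exists_quot σ F₂ hF₂inv
    obtain ⟨E, hE0, hEl, hEm, hEn, hEk⟩ := ih (G := G ⧸ F₂) inferInstance σb
      (MulEquiv.ext fun x => by
        obtain ⟨x, rfl⟩ := QuotientGroup.mk_surjective x
        rw [hσbk]
        exact (QuotientGroup.eq.2 (top_mem_fitting₂ (n := k + 3) (by omega) hG σ hσ hfpf F hF x)).symm)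
      (fun x hx => quot_fpf σ hfpf F₂ hF₂inv σb hσb x hx)
    haveI := fun i => hEn i
    refine ⟨Fin.cons ⊥ (Fin.cons F fun i => (E i).comap (QuotientGroup.mk' F₂)), Fin.cons_zero _ _,
      ?_, ?_, ?_, ?_⟩
    · have hlast : Fin.last (2 * (k + 1) + 2) = (Fin.last (2 * k + 2)).succ.succ := rfl
      rw [hlast, Fin.cons_succ, Fin.cons_succ, hEl, Subgroup.comap_top]
    · refine Fin.monotone_iff_le_succ.2 fun i => ?_
      refine Fin.cases ?_ (fun j => Fin.cases ?_ (fun j' => ?_) j) i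
      · rw [Fin.castSucc_zero, Fin.cons_zero]; exact bot_le
      · simp only [Fin.cons_succ, ← Fin.succ_castSucc, Fin.castSucc_zero, Fin.cons_zero]
        rw [hE0, MonoidHom.comap_bot, QuotientGroup.ker_mk']
        exact hFF₂
      · simp only [Fin.cons_succ, ← Fin.succ_castSucc]
        exact Subgroup.comap_mono (hEm j'.castSucc_le_succ)
    · intro i
      refine Fin.cases ?_ (fun j => Fin.cases ?_ (fun j' => ?_) j) i
      · rw [Fin.cons_zero]; infer_instance
      · rw [Fin.cons_succ, Fin.cons_zero]; infer_instance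
      · rw [Fin.cons_succ, Fin.cons_succ]; infer_instance
    · intro i
      refine Fin.cases ?_ (fun j => Fin.cases ?_ (fun j' => ?_) j) i
      · obtain ⟨l, hl⟩ := (Subgroup.isNilpotent_iff_lowerCentralSeries _).1
          (FittingCores.fitting_nilpotent (G := G))
        refine ⟨l, ?_⟩
        rw [Fin.cons_succ, Fin.cons_zero, Fin.castSucc_zero, Fin.cons_zero, hl]
      · obtain ⟨l, hl⟩ := (Subgroup.isNilpotent_iff_lowerCentralSeries _).1
          (FittingCores.fitting_nilpotent (G := G ⧸ F))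
        refine ⟨l, ?_⟩
        simp only [Fin.cons_succ, ← Fin.succ_castSucc, Fin.castSucc_zero, Fin.cons_zero]
        rw [hE0, MonoidHom.comap_bot, QuotientGroup.ker_mk', ← QuotientGroup.ker_mk' F, ← MonoidHom.comap_bot, ← Subgroup.map_le_iff_le_comap,
          Subgroup.map_lowerCentralSeries, hF₂,
          Subgroup.map_comap_eq_self_of_surjective (QuotientGroup.mk'_surjective F), hl]
      · obtain ⟨l, hl⟩ := hEk j'
        refine ⟨l, ?_⟩
        simp only [Fin.cons_succ, ← Fin.succ_castSucc]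
        rw [← Subgroup.map_le_iff_le_comap, Subgroup.map_lowerCentralSeries,
          Subgroup.map_comap_eq_self_of_surjective (QuotientGroup.mk'_surjective F₂)]
        exact hl

end Cfsg.Agent.Gross
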