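import Mathlib.LinearAlgebra.BilinearForm.TensorProduct
import Mathlib.LinearAlgebra.TensorProduct.Tower
import Mathlib.LinearAlgebra.Span.Basic
import Mathlib.Tactic.LinearCombination
import Mathlib.Tactic.Module

/-! Alternating forms with small non-degenerate moved part after extension of scalars. -/

set_option autoImplicit false
open scoped TensorProduct

namespace Cfsg.Agent.Gross

variable {F : Type*} [Field F] {K : Type*} [Field K] [Algebra F K] {W : Type*} [AddCommGroup W]
  [Module F W]

/-- The radical of the extended form. -/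
noncomputable def radK (K : Type*) [Field K] [Algebra F K] (B : LinearMap.BilinForm F W) :
    Submodule K (K ⊗[F] W) :=
  LinearMap.ker (B.baseChange K)

theorem mem_radK {B : LinearMap.BilinForm F W} {v : K ⊗[F] W} :
    v ∈ radK K B ↔ ∀ w, B.baseChange K v w = 0 := by
  rw [radK, LinearMap.mem_ker, LinearMap.ext_iff]
  rfl

theorem tmul_mem_radK {B : LinearMap.BilinForm F W} {x : W} (hx : ∀ z, B x z = 0) :
    (1 : K) ⊗ₜ[F] x ∈ radK K B := by
  rw [mem_radK]
  intro w
  induction w using TensorProduct.induction_on with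
  | zero => simp
  | tmul a z => simp [hx]
  | add a b ha hb => rw [map_add, ha, hb, add_zero]

theorem baseChange_skew {B : LinearMap.BilinForm F W} (hB : ∀ x, B x x = 0) (v w : K ⊗[F] W) :
    B.baseChange K v w = -B.baseChange K w v := by
  have hsk : ∀ x z, B x z = -B z x := fun x z => by
    have h := hB (x + z)
    simp only [map_add, LinearMap.add_apply, hB, zero_add, add_zero] at h
    linear_combination h
  induction v using TensorProduct.induction_on with
  | zero => simp
  | tmul a x =>
    induction w using TensorProduct.induction_on with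
    | zero => simp
    | tmul b z =>
      rw [LinearMap.BilinForm.baseChange_tmul, LinearMap.BilinForm.baseChange_tmul, hsk x z,
        mul_comm a b, neg_smul]
    | add c d hc hd =>
      simp only [map_add, LinearMap.add_apply, hc, hd]
      ring
  | add c d hc hd =>
    simp only [map_add, LinearMap.add_apply, hc, hd]
    ring

/-- Forms separating points separate the points of the extension. -/
theorem eq_zero_of_family [Finite W] {ι : Type*} [Fintype ι] (B : LinearMap.BilinForm F W)
    (α : ι → Module.End F W) (hsep : ∀ x, (∀ i z, B (α i x) z = 0) → x = 0) (v : K ⊗[F] W)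
    (hv : ∀ i, (α i).baseChange K v ∈ radK K B) : v = 0 := by
  classical
  have := Fintype.ofFinite W
  let Ψ : W →ₗ[F] (ι × W → F) := LinearMap.pi fun p => (B.flip p.2).comp (α p.1)
  have hΨ : LinearMap.ker Ψ = ⊥ := by
    rw [LinearMap.ker_eq_bot']
    intro x hx
    exact hsep x fun i z => congrFun hx (i, z)
  obtain ⟨Φ, hΦ⟩ := LinearMap.exists_leftInverse_of_injective Ψ hΨ
  let u : ι × W → W := fun p => Φ (Pi.single p 1)
  have key : ∀ t : K ⊗[F] W,
      t = ∑ p : ι × W, B.baseChange K ((α p.1).baseChange K t) (1 ⊗ₜ p.2) • (1 : K) ⊗ₜ[F] u p := by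
    intro t
    induction t using TensorProduct.induction_on with
    | zero => simp
    | tmul a x =>
      have hx : x = ∑ p : ι × W, B (α p.1 x) p.2 • u p := by
        have h1 := congrArg (fun G : W →ₗ[F] W => G x) hΦ
        simp only [LinearMap.comp_apply, LinearMap.id_apply] at h1
        conv_lhs => rw [← h1, ← Finset.univ_sum_single (Ψ x), map_sum]
        refine Finset.sum_congr rfl fun p _ => ?_
        rw [show Pi.single p (Ψ x p) = (Ψ x p) • (Pi.single p (1 : F) : ι × W → F) by
          rw [← Pi.single_smul, smul_eq_mul, mul_one], map_smul]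
        rfl
      conv_lhs => rw [hx, TensorProduct.tmul_sum]
      refine Finset.sum_congr rfl fun p _ => ?_
      rw [LinearMap.baseChange_tmul, LinearMap.BilinForm.baseChange_tmul, mul_one,
        TensorProduct.tmul_smul, TensorProduct.smul_tmul', TensorProduct.smul_tmul',
        smul_eq_mul, mul_one]
    | add c d hc hd =>
      conv_lhs => rw [hc, hd]
      simp only [map_add, LinearMap.add_apply, add_smul, Finset.sum_add_distrib]
  rw [key v]
  exact Finset.sum_eq_zero fun p _ => by rw [mem_radK.1 (hv p.1), zero_smul]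

/-- Two inverted vectors of a summand without radical are dependent. -/
theorem two_neg_false {B : LinearMap.BilinForm F W} (hB : ∀ x, B x x = 0) (T : Module.End F W)
    (e₁ e₂ : W) (he : B e₁ e₂ ≠ 0)
    (hspan : ∀ x, ∃ i j : F, ∀ z, B (x - T x - (i • e₁ + j • e₂)) z = 0) (h2 : (2 : K) ≠ 0)
    (L : Submodule K (K ⊗[F] W)) (hL : ∀ v ∈ L, v ∈ radK K B → v = 0) {v w : K ⊗[F] W}
    (hv : v ∈ L) (hw : w ∈ L) (hTv : T.baseChange K v = -v) (hTw : T.baseChange K w = -w)
    (hind : ∀ a b : K, a • v + b • w = 0 → a = 0 ∧ b = 0) (hvw : B.baseChange K v w = 0) : False := by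
  set E₁ : K ⊗[F] W := (1 : K) ⊗ₜ[F] e₁ with hE₁
  set E₂ : K ⊗[F] W := (1 : K) ⊗ₜ[F] e₂ with hE₂
  have hdec : ∀ t : K ⊗[F] W, ∃ a b : K, t - T.baseChange K t - (a • E₁ + b • E₂) ∈ radK K B := by
    intro t
    induction t using TensorProduct.induction_on with
    | zero => exact ⟨0, 0, by simp⟩
    | tmul a x =>
      obtain ⟨i, j, hij⟩ := hspan x
      refine ⟨i • a, j • a, ?_⟩
      have h := (radK K B).smul_mem a (tmul_mem_radK (K := K) hij)
      convert h using 1
      simp only [hE₁, hE₂, LinearMap.baseChange_tmul, TensorProduct.smul_tmul', smul_eq_mul, mul_one,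
        TensorProduct.tmul_sub, TensorProduct.tmul_add, TensorProduct.tmul_smul,
        smul_sub, smul_add, mul_smul_comm, mul_one]
    | add c d hc hd =>
      obtain ⟨a, b, hc⟩ := hc
      obtain ⟨a', b', hd⟩ := hd
      refine ⟨a + a', b + b', ?_⟩
      convert (radK K B).add_mem hc hd using 1
      simp only [map_add, add_smul]
      abel
  have hhalf : ∀ t, T.baseChange K t = -t → ∃ a b : K, t - (a • E₁ + b • E₂) ∈ radK K B := by
    intro t ht
    obtain ⟨a, b, h⟩ := hdec t
    refine ⟨2⁻¹ * a, 2⁻¹ * b, ?_⟩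
    convert (radK K B).smul_mem (2⁻¹ : K) h using 1
    rw [ht, sub_neg_eq_add, ← two_smul K t, smul_sub, smul_smul, inv_mul_cancel₀ h2, one_smul,
      smul_add, smul_smul, smul_smul]
  obtain ⟨a₁, a₂, hr⟩ := hhalf v hTv
  obtain ⟨b₁, b₂, hr'⟩ := hhalf w hTw
  set r := v - (a₁ • E₁ + a₂ • E₂) with hrdef
  set r' := w - (b₁ • E₁ + b₂ • E₂) with hr'def
  have hleft : ∀ x, B.baseChange K r x = 0 := mem_radK.1 hr
  have hright : ∀ x, B.baseChange K x r' = 0 := fun x => by
    rw [baseChange_skew hB, mem_radK.1 hr' x, neg_zero]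
  have h11 : B.baseChange K E₁ E₁ = 0 := by rw [hE₁, LinearMap.BilinForm.baseChange_tmul, hB, zero_smul]
  have h22 : B.baseChange K E₂ E₂ = 0 := by rw [hE₂, LinearMap.BilinForm.baseChange_tmul, hB, zero_smul]
  have h21 : B.baseChange K E₂ E₁ = -B.baseChange K E₁ E₂ := baseChange_skew hB _ _
  have h12 : B.baseChange K E₁ E₂ ≠ 0 := by
    rw [hE₁, hE₂, LinearMap.BilinForm.baseChange_tmul, mul_one, Algebra.smul_def, mul_one]
    exact fun h => he ((algebraMap F K).injective (h.trans (map_zero _).symm))
  have hdet : a₁ * b₂ - a₂ * b₁ = 0 := by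
    have h := hvw
    rw [show v = a₁ • E₁ + a₂ • E₂ + r by rw [hrdef]; abel,
      show w = b₁ • E₁ + b₂ • E₂ + r' by rw [hr'def]; abel] at h
    simp only [map_add, LinearMap.add_apply, map_smul, LinearMap.smul_apply, hleft, hright, h11, h22,
      h21, smul_eq_mul, mul_zero, add_zero, zero_add] at h
    have h' : (a₁ * b₂ - a₂ * b₁) * B.baseChange K E₁ E₂ = 0 := by linear_combination h
    exact (mul_eq_zero.1 h').resolve_right h12
  have hz : ∀ a b : K, a * a₁ + b * b₁ = 0 → a * a₂ + b * b₂ = 0 → a = 0 ∧ b = 0 := by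
    intro a b h1 h2'
    refine hind a b (hL _ (L.add_mem (L.smul_mem a hv) (L.smul_mem b hw)) ?_)
    have h : a • v + b • w = a • r + b • r' + ((a * a₁ + b * b₁) • E₁ + (a * a₂ + b * b₂) • E₂) := by
      rw [hrdef, hr'def]
      simp only [smul_sub, smul_add, add_smul, smul_smul]
      abel
    rw [h, h1, h2', zero_smul, zero_smul, add_zero, add_zero]
    exact (radK K B).add_mem ((radK K B).smul_mem a hr) ((radK K B).smul_mem b hr')
  obtain ⟨hb1, ha1⟩ := hz b₁ (-a₁) (by ring) (by linear_combination -hdet)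
  obtain ⟨hb2, ha2⟩ := hz b₂ (-a₂) (by linear_combination hdet) (by ring)
  rw [neg_eq_zero] at ha1 ha2
  exact one_ne_zero (hz 1 0 (by rw [ha1, hb1]; ring) (by rw [ha2, hb2]; ring)).1

end Cfsg.Agent.Gross
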