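import Cfsg.Agent.Lib.Gross.Half
import Cfsg.Agent.Lib.Gross.Tensor
import Cfsg.Agent.Lib.Solvable.CoprimeFreeGroup
import Mathlib.RingTheory.TensorProduct.Finite
import Mathlib.RingTheory.RootsOfUnity.AlgebraicallyClosed

/-! The minimal configuration of the theorem of Gross cannot occur. -/

set_option autoImplicit false
open scoped commutatorElement TensorProduct

open Module

universe u

namespace Cfsg.Agent.Gross

open ShultGross (form form_swap form_congr form_mul_left form_mul_right form_one_left radical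
  exists_weight)
open CoprimeFree (autEnd)

theorem exists_log {K : Type*} [Field K] [IsAlgClosed K] {r : ℕ} [Fact r.Prime] (hrK : (r : K) ≠ 0) :
    ∃ ψ : ZMod r → K, Function.Injective ψ ∧ ψ 0 = 1 ∧ (∀ a b, ψ (a + b) = ψ a * ψ b) ∧
      ∀ x : K, x ^ r = 1 → ∃ a, ψ a = x := by
  have hr := (Fact.out : r.Prime)
  haveI : NeZero (r : K) := ⟨hrK⟩
  obtain ⟨ζ, hζ⟩ := HasEnoughRootsOfUnity.exists_primitiveRoot K r
  refine ⟨fun a => ζ ^ a.val, fun a b h => ?_, by simp, fun a b => ?_, fun x hx => ?_⟩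
  · exact ZMod.val_injective r (hζ.pow_inj (ZMod.val_lt a) (ZMod.val_lt b) h)
  · change ζ ^ (a + b).val = ζ ^ a.val * ζ ^ b.val
    rw [← pow_add, ZMod.val_add, ← pow_eq_pow_mod _ hζ.pow_eq_one]
  · obtain ⟨i, hi, rfl⟩ := hζ.eq_pow_of_pow_eq_one hx
    exact ⟨(i : ZMod r), by simp [ZMod.val_natCast_of_lt hi]⟩

variable {K : Type*} [Field K] [IsAlgClosed K] {V : Type*} [AddCommGroup V] [Module K V]
  [FiniteDimensional K V]

theorem minimal_aux {R : Type u} [Group R] [Finite R] {Q : Type*} [Group Q] [Finite Q]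
    {r q n : ℕ} [Fact r.Prime] {W : Type*} [CommGroup W] [Finite W] [Module (ZMod r) (Additive W)]
    (π : R →* W) (hπ : Function.Surjective π) (hker : ∀ x, π x = 1 ↔ x ∈ Subgroup.center R)
    (αW : MulAut W) (βW : Q →* MulAut W) (hr : r.Prime) (hq : q.Prime) (hr2 : r ≠ 2) (hq2 : q ≠ 2) (hrq : r ≠ q) (hn : 1 ≤ n)
    (h2K : (2 : K) ≠ 0) (hrK : (r : K) ≠ 0) (hR : IsPGroup r R) (hQ : IsPGroup q Q)
    (θR : MulAut R) (θQ : MulAut Q) (hθR : θR ^ 2 ^ n = 1) (hθQ : θQ ^ 2 ^ n = 1)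
    (hfpf : ∀ x, θR x = x → x = 1) (act : Q →* MulAut R)
    (hcompat : ∀ t x, θR (act t x) = act (θQ t) (θR x))
    (ρ : R →* Module.End K V) (hρ : Function.Injective ρ) (X : Module.End K V)
    (hX : X ^ 2 ^ n = 1) (hsum : ∑ i ∈ Finset.range (2 ^ n), X ^ i = 0)
    (hconj : ∀ t, X * ρ t = ρ (θR t) * X)
    (hRZ : ∀ u t : R, ⁅u, t⁆ ∈ Subgroup.center R) (hexp : ∀ x : R, x ^ r ∈ Subgroup.center R)
    (hyZ : ∀ z ∈ Subgroup.center R, (θR ^ 2 ^ (n - 1)) z = z) (hab : ∃ a b : R, ⁅a, b⁆ ≠ 1)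
    (hQfix : ∀ t, ∀ z ∈ Subgroup.center R, act t z = z)
    (hgen : ∀ D : Subgroup R, Subgroup.center R ≤ D → (∀ t x, x⁻¹ * act t x ∈ D) → D = ⊤)
    (hirr : ∀ D : Subgroup R, Subgroup.center R ≤ D → (∀ x ∈ D, θR x ∈ D) →
      (∀ t, ∀ x ∈ D, act t x ∈ D) → D = Subgroup.center R ∨ D = ⊤)
    (hQZ : ∀ u t : Q, ⁅u, t⁆ ∈ Subgroup.center Q)
    (hyQ : ∀ t : Q, (θQ ^ 2 ^ (n - 1)) t * t ∈ Subgroup.center Q)
    (hΔ : ∀ H : Subgroup Q, (∀ t, t⁻¹ * (θQ ^ 2 ^ (n - 1)) t ∈ H) → H = ⊤)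
    (hz₀ : ∃ z₀ ∈ Subgroup.center Q, (∃ a b : Q, z₀ = ⁅a, b⁆) ∧
      ∃ x, x⁻¹ * act z₀ x ∉ Subgroup.center R)
    (hαW : ∀ x, αW (π x) = π (θR x)) (hβW : ∀ t x, βW t (π x) = π (act t x)) :
    False := by
  classical
  haveI := Fact.mk hq
  have hck : ∀ (k : ℕ) t x, (θR ^ k) (act t x) = act ((θQ ^ k) t) ((θR ^ k) x) := by
    intro k
    induction k with
    | zero => intro t x; simp
    | succ k ih => intro t x; simp only [pow_succ', MulAut.mul_apply, ih, hcompat]
  -- the weight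
  obtain ⟨a₀, b₀, hab₀⟩ := hab
  have hRK : (Nat.card R : K) ≠ 0 := by
    obtain ⟨k, hk⟩ := hR.exists_card_eq
    rw [hk, Nat.cast_pow]
    exact pow_ne_zero _ hrK
  obtain ⟨W₀, lam, hW₀, hW₀i, -, hlc, hW₀z⟩ := exists_weight hRK ρ ⟨⁅a₀, b₀⁆, hRZ a₀ b₀⟩
    (fun h => hab₀ (hρ (h.trans (map_one ρ).symm)))
  have hrad_ne : radical hRZ lam ≠ ⊤ := fun h =>
    hlc ((h ▸ Subgroup.mem_top b₀ : b₀ ∈ radical hRZ lam) a₀)
  have hform_act : ∀ t u v, form hRZ lam (act t u) (act t v) = form hRZ lam u v := fun t u v =>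
    congrArg lam (Subtype.ext
      ((map_commutatorElement (act t) u v).symm.trans (hQfix t _ (hRZ u v))))
  have hradQ : ∀ t, ∀ x ∈ radical hRZ lam, act t x ∈ radical hRZ lam := fun t x hx w => by
    obtain ⟨w', rfl⟩ := (act t).surjective w
    rw [hform_act]; exact hx w'
  have hZrad := center_le_radical hRZ lam
  have hmove : ∃ x, (θR ^ 2 ^ (n - 1)) x * x⁻¹ ∉ radical hRZ lam := by
    by_contra hcon
    push Not at hcon
    set D := radical hRZ lam with hD
    haveI hDn : D.Normal := ⟨fun t ht g => by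
      rw [show g * t * g⁻¹ = ⁅g, t⁆ * t by rw [commutatorElement_def]; group]
      exact D.mul_mem (hZrad (hRZ g t)) ht⟩
    let π := QuotientGroup.mk' D
    have hπ : ∀ a b, π a = π b ↔ a * b⁻¹ ∈ D := fun a b => by
      rw [← mul_inv_eq_one, ← map_inv, ← map_mul]
      exact QuotientGroup.eq_one_iff _
    have hact_congr : ∀ (t : Q) a b, π a = π b → π (act t a) = π (act t b) := fun t a b h => by
      rw [hπ, ← map_inv, ← map_mul]
      exact hradQ t _ ((hπ a b).1 h)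
    let H : Subgroup Q :=
      { carrier := {t | ∀ x, π (act t x) = π x}
        one_mem' := fun x => by simp
        mul_mem' := fun {s t} hs ht x => by rw [map_mul, MulAut.mul_apply, hs, ht]
        inv_mem' := fun {t} ht x => by
          have h := ht (act t⁻¹ x)
          rw [← MulAut.mul_apply, ← map_mul, mul_inv_cancel, map_one, MulAut.one_apply] at h
          exact h.symm }
    have hHtop : H = ⊤ := hΔ H fun t x => by
      have h1 : π (act ((θQ ^ 2 ^ (n - 1)) t) x) = π (act t x) := by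
        rw [hact_congr _ x ((θR ^ 2 ^ (n - 1)) x) ((hπ _ _).2 (hcon x)).symm, ← hck]
        exact (hπ _ _).2 (hcon (act t x))
      rw [map_mul, MulAut.mul_apply, hact_congr t⁻¹ _ _ h1, ← MulAut.mul_apply, ← map_mul,
        inv_mul_cancel, map_one, MulAut.one_apply]
    refine hrad_ne (hgen D hZrad fun t x => ?_)
    have h := (hHtop ▸ Subgroup.mem_top t : t ∈ H) x
    exact QuotientGroup.eq.1 h.symm
  obtain ⟨s₁, s₂, hs12, hspanS⟩ :=
    rad_pair hr hr2 hn h2K hR θR hθR ρ X hX hsum hconj hRZ hyZ lam W₀ hW₀ hW₀i hW₀z hmove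
  -- the quotient by the centre
  haveI : Module.Finite (ZMod r) (Additive W) := Module.Finite.of_finite
  set X₀ : Module.End (ZMod r) (Additive W) := autEnd r W αW with hX₀
  let τ₀ : Q →* Module.End (ZMod r) (Additive W) := (autEnd r W).comp βW
  let mk : R → Additive W := fun x => Additive.ofMul (π x)
  have hπeq : ∀ a b, π a = π b ↔ a⁻¹ * b ∈ Subgroup.center R := fun a b => by
    rw [← hker, map_mul, map_inv, inv_mul_eq_one]
  have hmk : ∀ w, ∃ x, mk x = w := fun w => by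
    obtain ⟨x, hx⟩ := hπ (Additive.toMul w)
    exact ⟨x, congrArg Additive.ofMul hx⟩
  have hX₀mk : ∀ (k : ℕ) x, (X₀ ^ k) (mk x) = mk ((θR ^ k) x) := by
    intro k
    induction k with
    | zero => intro x; simp
    | succ k ih =>
      intro x
      rw [pow_succ', Module.End.mul_apply, ih, pow_succ', MulAut.mul_apply]
      exact congrArg Additive.ofMul (hαW _)
  have hτ₀mk : ∀ t x, τ₀ t (mk x) = mk (act t x) := fun t x => congrArg Additive.ofMul (hβW t x)
  have hX₀n : X₀ ^ 2 ^ n = 1 := LinearMap.ext fun w => by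
    obtain ⟨x, rfl⟩ := hmk w
    rw [hX₀mk, hθR]
    rfl
  have hsum₀ : ∑ i ∈ Finset.range (2 ^ n), X₀ ^ i = 0 := by
    refine LinearMap.ext fun v => ?_
    obtain ⟨u, hu⟩ := hmk ((∑ i ∈ Finset.range (2 ^ n), X₀ ^ i) v)
    have h1 : X₀ (mk u) = mk u := by
      rw [hu, ← Module.End.mul_apply, ← sub_eq_zero, ← LinearMap.sub_apply]
      have h : (X₀ - 1) * ∑ i ∈ Finset.range (2 ^ n), X₀ ^ i = 0 := by
        rw [mul_geom_sum, hX₀n, sub_self]
      rw [sub_mul, one_mul] at h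
      rw [h, LinearMap.zero_apply]
    have h2 : θR u * u⁻¹ ∈ (Subgroup.center R) := by
      have h3 := hX₀mk 1 u
      rw [pow_one, pow_one, h1] at h3
      have h4 := (inferInstance : (Subgroup.center R).Normal).conj_mem _
        ((hπeq _ _).1 (Additive.ofMul.injective h3)) u
      rwa [mul_inv_cancel_left] at h4
    have h3 : u ∈ (Subgroup.center R) := ShultGross.mem_of_moved_mem θR hfpf (Subgroup.center R)
      (fun t ht => (Subgroup.characteristic_iff_map_le.1 inferInstance θR) ⟨t, ht, rfl⟩) h2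
    rw [← hu, LinearMap.zero_apply]
    exact congrArg Additive.ofMul ((hker u).2 h3)
  have hconj₀ : ∀ t, X₀ * τ₀ t = τ₀ (θQ t) * X₀ := fun t => LinearMap.ext fun w => by
    obtain ⟨x, rfl⟩ := hmk w
    have h1 : ∀ z, X₀ (mk z) = mk (θR z) := fun z => by simpa using hX₀mk 1 z
    rw [Module.End.mul_apply, Module.End.mul_apply, hτ₀mk, h1, h1, hτ₀mk, hcompat]
  haveI : CharP (AlgebraicClosure (ZMod r)) r := charP_of_injective_algebraMap' (ZMod r) r
  let Φ : Module.End (ZMod r) (Additive W) →ₐ[ZMod r]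
      Module.End (AlgebraicClosure (ZMod r))
        (AlgebraicClosure (ZMod r) ⊗[ZMod r] Additive W) :=
    Module.End.baseChangeHom (ZMod r) (AlgebraicClosure (ZMod r)) (Additive W)
  have hΦ : Function.Injective Φ :=
    LinearMap.baseChangeHom_injective (ZMod r) (Additive W) (AlgebraicClosure (ZMod r))
  let τ₁ : Q →* Module.End (AlgebraicClosure (ZMod r))
      (AlgebraicClosure (ZMod r) ⊗[ZMod r] Additive W) :=
    Φ.toRingHom.toMonoidHom.comp τ₀
  have hτ₁ : ∀ t, τ₁ t = Φ (τ₀ t) := fun t => rfl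
  have hconj₁ : ∀ t, Φ X₀ * τ₁ t = τ₁ (θQ t) * Φ X₀ := fun t => by
    rw [hτ₁, hτ₁, ← map_mul, hconj₀, map_mul]
  have h2k : (2 : AlgebraicClosure (ZMod r)) ≠ 0 :=
    CoprimeFree.natCast_ne_zero (p := r) Nat.prime_two hr2
  -- the second weight
  obtain ⟨z₀, hz₀c, ⟨a₁, b₁, hz₀ab⟩, x₀, hx₀⟩ := hz₀
  obtain ⟨kQ, hkQ⟩ := hQ.exists_card_eq
  have hQodd : Odd (Nat.card Q) := by rw [hkQ]; exact (hq.odd_of_ne_two hq2).pow
  have hQK : (Nat.card Q : AlgebraicClosure (ZMod r)) ≠ 0 := by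
    rw [hkQ, Nat.cast_pow]; exact pow_ne_zero _ (CoprimeFree.natCast_ne_zero (p := r) hq hrq)
  obtain ⟨W₁, lam₁, hW₁, hW₁i, -, hl₁, hW₁z⟩ := exists_weight hQK τ₁ ⟨z₀, hz₀c⟩ (fun h => hx₀ (by
    have h' : τ₀ z₀ = 1 := hΦ ((hτ₁ z₀).symm.trans (h.trans (map_one Φ).symm))
    have h'' := congrArg (fun F : Module.End (ZMod r) (Additive W) => F (mk x₀)) h'
    exact (hπeq _ _).1 (Additive.ofMul.injective ((hτ₀mk z₀ x₀).symm.trans h'')).symm))
  have hlab : form hQZ lam₁ a₁ b₁ ≠ 1 := fun h => hl₁ ((congrArg lam₁ (Subtype.ext hz₀ab)).trans h)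
  have htor₁ : ∀ c, lam₁ c ^ Nat.card Q = 1 := fun c => by
    rw [← map_pow, show c ^ Nat.card Q = 1 from Subtype.ext (by
      rw [Subgroup.coe_pow, pow_card_eq_one']; rfl), map_one]
  obtain ⟨e, ω, m, N, M, he, hen, hωc, hω1, hN2, -, hNM, hm1, hm2, hm0, L, hLi, hLmin, hLz, hLev⟩ :=
    stage (p := 2) Nat.prime_two hn h2k θQ hθQ τ₁ (Φ X₀)
      (by rw [← map_pow, hX₀n, map_one]) (by simp_rw [← map_pow, ← map_sum, hsum₀, map_zero])
      hconj₁ hQZ lam₁ W₁ hW₁ hW₁i hW₁z ⊤ le_top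
      (fun x _ h w => h w (Subgroup.mem_top w))
      ⟨b₁, Subgroup.mem_top _, fun h => hlab (h a₁)⟩ (fun _ _ _ _ => Subgroup.mem_top _)
      (fun s _ hs => by
        have h : s * s ∈ radical hQZ lam₁ := by
          have := Subgroup.mul_mem _ (Subgroup.inv_mem _ hs)
            (center_le_radical hQZ lam₁ (hyQ s))
          rwa [mul_inv_rev, inv_inv, mul_assoc, inv_mul_cancel_left] at this
        intro w
        have h' := h w
        rw [form_mul_right] at h'
        exact eq_one_of_sq h' hQodd (htor₁ _))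
  obtain ⟨he2, -, hmall⟩ := two_arith (ω.erase 1) m he
    (by rw [Finset.card_erase_add_one hω1, hωc])
    (by rw [← hm1, ← Finset.add_sum_erase ω m hω1, hm0, zero_add])
    (by rw [← hm2, ← Finset.add_sum_erase ω (fun a => m a ^ 2) hω1]; simp [hm0])
    hNM hN2
  set h₂ := 2 ^ (e - 1) with hh₂
  have he' : 2 ^ e = 2 * h₂ := by rw [hh₂, ← pow_succ', Nat.sub_add_cancel he]
  obtain ⟨α, hα, β, hβ, hαβ⟩ : ∃ α ∈ ω.filter (fun a => a ^ h₂ ≠ 1),
      ∃ β ∈ ω.filter (fun a => a ^ h₂ ≠ 1), α ≠ β := by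
    refine Finset.one_lt_card.1 ?_
    have h1 : (ω.filter fun a => a ^ h₂ = 1).card ≤ h₂ := by
      refine (Finset.card_le_card (t := (Polynomial.nthRoots h₂ (1 : AlgebraicClosure (ZMod r))).toFinset)
        fun a ha => ?_).trans ((Multiset.toFinset_card_le _).trans (Polynomial.card_nthRoots _ _))
      rw [Multiset.mem_toFinset, Polynomial.mem_nthRoots (by rw [hh₂]; positivity)]
      exact (Finset.mem_filter.1 ha).2
    have h2 := Finset.card_filter_add_card_filter_not (s := ω) (fun a => a ^ h₂ = 1)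
    have h3 : 2 ≤ h₂ := Nat.le_self_pow (by omega) 2
    simp only [ne_eq]
    omega
  have hneg : ∀ a ∈ ω.filter (fun a => a ^ h₂ ≠ 1), ∃ v ∈ L, v ≠ 0 ∧
      ((Φ X₀) ^ 2 ^ (n - e)) v = a • v ∧ ((Φ X₀) ^ 2 ^ (n - 1)) v = -v := by
    intro a ha
    obtain ⟨haω, ha1⟩ := Finset.mem_filter.1 ha
    obtain ⟨v, hv, hv0, hva, hah⟩ := hLev a haω (by
      rw [hmall a (Finset.mem_erase.2 ⟨fun h => ha1 (by rw [h, one_pow]), haω⟩)]; exact one_pos)
    refine ⟨v, hv, hv0, hva, ?_⟩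
    have hpow : ∀ j : ℕ, (((Φ X₀) ^ 2 ^ (n - e)) ^ j) v = a ^ j • v := by
      intro j
      induction j with
      | zero => simp
      | succ j ih => rw [pow_succ', Module.End.mul_apply, ih, map_smul, hva, smul_smul, ← pow_succ]
    have hneg1 : a ^ h₂ = -1 := by
      rw [he', two_mul, pow_add] at hah
      exact (mul_self_eq_one_iff.1 hah).resolve_left ha1
    rw [show 2 ^ (n - 1) = 2 ^ (n - e) * h₂ by rw [hh₂, ← pow_add]; congr 1; omega, pow_mul, hpow,
      hneg1]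
    exact neg_one_smul _ v
  obtain ⟨v, hvL, hv0, hvα, hvT⟩ := hneg α hα
  obtain ⟨w, hwL, hw0, hwβ, hwT⟩ := hneg β hβ
  -- the form
  have hformr : ∀ u t : R, ((form hRZ lam u t : Kˣ) : K) ^ r = 1 := fun u t => by
    have hpow : ∀ k : ℕ, form hRZ lam (u ^ k) t = form hRZ lam u t ^ k := by
      intro k
      induction k with
      | zero => rw [pow_zero, pow_zero, form_one_left]
      | succ k ih => rw [pow_succ, form_mul_left, ih, pow_succ]
    rw [← Units.val_pow_eq_pow_val, ← hpow, ShultGross.form_central _ _ _ (hexp u), Units.val_one]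
  obtain ⟨ψ, hψinj, hψ0, hψadd, hψsurj⟩ := exists_log (K := K) (r := r) hrK
  choose g hg using fun u t => hψsurj _ (hformr u t)
  let g' : Additive W → Additive W → ZMod r := fun a b =>
    g (Function.surjInv hπ (Additive.toMul a)) (Function.surjInv hπ (Additive.toMul b))
  have hg' : ∀ x z, ψ (g' (mk x) (mk z)) = ((form hRZ lam x z : Kˣ) : K) := fun x z => by
    refine (hg _ _).trans (congrArg Units.val (form_congr hRZ lam x z ?_ ?_))
    · exact (hπeq _ _).1 (Function.surjInv_eq hπ (π x)).symm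
    · exact (hπeq _ _).1 (Function.surjInv_eq hπ (π z)).symm
  have hgadd₁ : ∀ a a' b, g' (a + a') b = g' a b + g' a' b := fun a a' b => by
    obtain ⟨x, rfl⟩ := hmk a
    obtain ⟨x', rfl⟩ := hmk a'
    obtain ⟨z, rfl⟩ := hmk b
    refine hψinj ?_
    rw [hψadd, hg', hg', show mk x + mk x' = mk (x * x') from (congrArg Additive.ofMul (map_mul π x x')).symm, hg', form_mul_left,
      Units.val_mul]
  have hgadd₂ : ∀ a b b', g' a (b + b') = g' a b + g' a b' := fun a b b' => by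
    obtain ⟨x, rfl⟩ := hmk a
    obtain ⟨z, rfl⟩ := hmk b
    obtain ⟨z', rfl⟩ := hmk b'
    refine hψinj ?_
    rw [hψadd, hg', hg', show mk z + mk z' = mk (z * z') from (congrArg Additive.ofMul (map_mul π z z')).symm, hg', form_mul_right,
      Units.val_mul]
  let B : LinearMap.BilinForm (ZMod r) (Additive W) :=
    (AddMonoidHom.mk' (fun a => (AddMonoidHom.mk' (g' a) (hgadd₂ a)).toZModLinearMap r)
      (fun a a' => LinearMap.ext (hgadd₁ a a'))).toZModLinearMap r
  have hB : ∀ x z, B (mk x) (mk z) = 0 ↔ form hRZ lam x z = 1 := fun x z => by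
    change g' (mk x) (mk z) = 0 ↔ _
    rw [← hψinj.eq_iff, hg', hψ0, Units.val_eq_one]
  have hBalt : ∀ a, B a a = 0 := fun a => by
    obtain ⟨x, rfl⟩ := hmk a
    rw [hB, ← map_one lam]
    exact congrArg lam (Subtype.ext (commutatorElement_self x))
  have hBrad : ∀ x, x ∈ radical hRZ lam → ∀ z, B (mk x) z = 0 := fun x hx z => by
    obtain ⟨z, rfl⟩ := hmk z
    rw [hB, form_swap, hx z, inv_one]
  have hBQ : ∀ t a b, B (τ₀ t a) (τ₀ t b) = B a b := fun t a b => by
    obtain ⟨x, rfl⟩ := hmk a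
    obtain ⟨z, rfl⟩ := hmk b
    rw [hτ₀mk, hτ₀mk]
    change g' (mk (act t x)) (mk (act t z)) = g' (mk x) (mk z)
    refine hψinj ?_
    rw [hg', hg', hform_act]
  have hBKQ : ∀ t (a b : AlgebraicClosure (ZMod r) ⊗[ZMod r] Additive W),
      B.baseChange (AlgebraicClosure (ZMod r)) (τ₁ t a) (τ₁ t b) =
        B.baseChange (AlgebraicClosure (ZMod r)) a b := by
    intro t a b
    rw [hτ₁]
    change B.baseChange _ ((τ₀ t).baseChange _ a) ((τ₀ t).baseChange _ b) = _
    induction a using TensorProduct.induction_on with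
    | zero => simp
    | tmul c x =>
      induction b using TensorProduct.induction_on with
      | zero => simp
      | tmul d z => simp [hBQ]
      | add b b' hb hb' => simp only [map_add, hb, hb']
    | add a a' ha ha' => simp only [map_add, LinearMap.add_apply, ha, ha']
  have hradKQ : ∀ t u, u ∈ radK (AlgebraicClosure (ZMod r)) B →
      τ₁ t u ∈ radK (AlgebraicClosure (ZMod r)) B := fun t u hu => by
    rw [mem_radK] at hu ⊢
    intro b
    rw [show b = τ₁ t (τ₁ t⁻¹ b) by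
      rw [← Module.End.mul_apply, ← map_mul, mul_inv_cancel, map_one]; rfl, hBKQ]
    exact hu _
  -- a conjugate of the constituent avoiding the radical
  obtain ⟨i, u₀, hu₀, hu₀i⟩ : ∃ i : ℕ, ∃ u ∈ L,
      ((Φ X₀) ^ i) u ∉ radK (AlgebraicClosure (ZMod r)) B := by
    by_contra hcon
    push Not at hcon
    apply hv0
    refine eq_zero_of_family B (fun i : Fin (2 ^ n) => X₀ ^ (i : ℕ)) (fun a ha => ?_) v fun i => ?_
    · obtain ⟨x, rfl⟩ := hmk a
      let D : Subgroup R :=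
        { carrier := {x | ∀ i : ℕ, (θR ^ i) x ∈ radical hRZ lam}
          one_mem' := fun i => by rw [map_one]; exact one_mem _
          mul_mem' := fun {a b} ha hb i => by rw [map_mul]; exact mul_mem (ha i) (hb i)
          inv_mem' := fun {a} ha i => by rw [map_inv]; exact inv_mem (ha i) }
      have hxD : x ∈ D := fun k => by
        have hper : θR ^ k = θR ^ (k % 2 ^ n) := pow_eq_pow_mod k hθR
        rw [hper]
        intro z
        have h := ha ⟨k % 2 ^ n, Nat.mod_lt _ (by positivity)⟩ (mk z)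
        rw [hX₀mk, hB] at h
        rw [form_swap, h, inv_one]
      have hCD : (Subgroup.center R) ≤ D := fun z hz k => hZrad
        ((Subgroup.characteristic_iff_map_le.1 inferInstance (θR ^ k)) ⟨z, hz, rfl⟩)
      rcases hirr D hCD (fun z hz k => by rw [← MulAut.mul_apply, ← pow_succ]; exact hz (k + 1))
        (fun t z hz k => by rw [hck]; exact hradQ _ _ (hz k)) with h | h
      · exact congrArg Additive.ofMul ((hker x).2 (h ▸ hxD))
      · exact absurd (top_le_iff.1 fun z _ => by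
          have := (h ▸ Subgroup.mem_top z : z ∈ D) 0
          simpa using this) hrad_ne
    · have h := hcon (i : ℕ) v hvL
      rw [← map_pow] at h
      exact h
  have hconjk : ∀ (k : ℕ) t a, τ₁ ((θQ ^ k) t) (((Φ X₀) ^ k) a) = ((Φ X₀) ^ k) (τ₁ t a) := fun k t a =>
    (congrArg (fun F : Module.End _ _ => F a) (ShultGross.conj_pow hconj₁ k t)).symm
  set P : Module.End (AlgebraicClosure (ZMod r))
      (AlgebraicClosure (ZMod r) ⊗[ZMod r] Additive W) := (Φ X₀) ^ i with hP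
  have hL0 : ∀ u ∈ L, P u ∈ radK (AlgebraicClosure (ZMod r)) B → u = 0 := by
    rcases hLmin (L ⊓ (radK (AlgebraicClosure (ZMod r)) B).comap P) inf_le_left (fun s hs u hu => by
      refine ⟨hLi s hs u hu.1, ?_⟩
      rw [SetLike.mem_coe, Submodule.mem_comap]
      rw [hP, ← hconjk]
      exact hradKQ _ _ hu.2) with h | h
    · intro u hu hu'
      exact (Submodule.eq_bot_iff _).1 h u ⟨hu, hu'⟩
    · exact absurd ((h.symm ▸ hu₀ : u₀ ∈ L ⊓ (radK _ B).comap P)).2 hu₀i
  have hPinj : ∀ u, P u = 0 → u = 0 := fun u hu => by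
    have h := congrArg ((Φ X₀) ^ ((2 ^ n - 1) * i)) hu
    rw [hP, ← Module.End.mul_apply, ← pow_add, map_zero,
      show (2 ^ n - 1) * i + i = 2 ^ n * i by
        rw [Nat.sub_mul, one_mul]; exact Nat.sub_add_cancel (Nat.le_mul_of_pos_left i (by positivity)),
      pow_mul, ← map_pow, hX₀n, map_one, one_pow] at h
    exact h
  have hBvw : B.baseChange (AlgebraicClosure (ZMod r)) (P v) (P w) = 0 := by
    have h := hBKQ ((θQ ^ i) z₀) (P v) (P w)
    rw [hP, hconjk, hconjk, hLz ⟨z₀, hz₀c⟩ v hvL, hLz ⟨z₀, hz₀c⟩ w hwL, map_smul, map_smul,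
      map_smul, map_smul, LinearMap.smul_apply, smul_eq_mul, smul_eq_mul] at h
    by_contra hne
    have h' : ((lam₁ ⟨z₀, hz₀c⟩ * lam₁ ⟨z₀, hz₀c⟩ : (AlgebraicClosure (ZMod r))ˣ) :
        AlgebraicClosure (ZMod r)) = 1 := by
      refine mul_right_cancel₀ hne ?_
      rw [one_mul, Units.val_mul]
      linear_combination h
    exact hl₁ (eq_one_of_sq (Units.ext h') hQodd (htor₁ _))
  refine two_neg_false hBalt (X₀ ^ 2 ^ (n - 1)) (mk s₁) (mk s₂) (fun h => hs12 ((hB s₁ s₂).1 h))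
    (fun a => ?_) h2k (L.map P) ?_ (Submodule.mem_map_of_mem hvL) (Submodule.mem_map_of_mem hwL)
    ?_ ?_ ?_ hBvw
  · obtain ⟨x, rfl⟩ := hmk a
    obtain ⟨k, l, hkl⟩ := hspanS (x * ((θR ^ 2 ^ (n - 1)) x)⁻¹) (by
      rw [map_mul, map_inv, ← MulAut.mul_apply, ← pow_add, ← two_mul, ← pow_succ',
        Nat.sub_add_cancel hn, hθR, MulAut.one_apply]
      simp [mul_assoc])
    refine ⟨(k : ZMod r), (l : ZMod r), fun z => ?_⟩
    rw [hX₀mk, Int.cast_smul_eq_zsmul, Int.cast_smul_eq_zsmul]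
    have heq : mk x - mk ((θR ^ 2 ^ (n - 1)) x) - (k • mk s₁ + l • mk s₂) =
        mk (x * ((θR ^ 2 ^ (n - 1)) x)⁻¹ * (s₁ ^ k * s₂ ^ l)⁻¹) := by
      refine Additive.toMul.injective ?_
      simp only [mk, toMul_sub, toMul_add, toMul_zsmul, toMul_ofMul, map_mul, map_inv, map_zpow,
        div_eq_mul_inv]
    rw [heq]
    exact hBrad _ hkl z
  · rintro _ ⟨u, hu, rfl⟩ hu'
    rw [hL0 u hu hu', map_zero]
  · change (Φ (X₀ ^ 2 ^ (n - 1))) (P v) = _
    rw [map_pow, hP, ← Module.End.mul_apply, pow_mul_comm, Module.End.mul_apply, hvT, map_neg]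
  · change (Φ (X₀ ^ 2 ^ (n - 1))) (P w) = _
    rw [map_pow, hP, ← Module.End.mul_apply, pow_mul_comm, Module.End.mul_apply, hwT, map_neg]
  · intro a b hab
    rw [← map_smul, ← map_smul, ← map_add] at hab
    have h0 := hPinj _ hab
    have h1 : ((Φ X₀) ^ 2 ^ (n - e)) (a • v + b • w) = ((Φ X₀) ^ 2 ^ (n - e)) 0 := by rw [h0]
    rw [map_add, map_smul, map_smul, hvα, hwβ, map_zero, smul_comm a α v, smul_comm b β w] at h1
    have h2 : (β - α) • (b • w) = 0 := by
      have h3 : a • v = -(b • w) := eq_neg_of_add_eq_zero_left h0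
      rw [h3, smul_neg] at h1
      linear_combination (norm := module) h1
    have hb : b = 0 := by
      rcases smul_eq_zero.1 h2 with h | h
      · exact absurd (sub_eq_zero.1 h).symm hαβ
      · exact (smul_eq_zero.1 h).resolve_right hw0
    rw [hb, zero_smul, add_zero] at h0
    exact ⟨(smul_eq_zero.1 h0).resolve_right hv0, hb⟩

theorem minimal_false {R : Type u} [Group R] [Finite R] {Q : Type*} [Group Q] [Finite Q]
    {r q n : ℕ} (hr : r.Prime) (hq : q.Prime) (hr2 : r ≠ 2) (hq2 : q ≠ 2) (hrq : r ≠ q) (hn : 1 ≤ n)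
    (h2K : (2 : K) ≠ 0) (hrK : (r : K) ≠ 0) (hR : IsPGroup r R) (hQ : IsPGroup q Q)
    (θR : MulAut R) (θQ : MulAut Q) (hθR : θR ^ 2 ^ n = 1) (hθQ : θQ ^ 2 ^ n = 1)
    (hfpf : ∀ x, θR x = x → x = 1) (act : Q →* MulAut R)
    (hcompat : ∀ t x, θR (act t x) = act (θQ t) (θR x))
    (ρ : R →* Module.End K V) (hρ : Function.Injective ρ) (X : Module.End K V)
    (hX : X ^ 2 ^ n = 1) (hsum : ∑ i ∈ Finset.range (2 ^ n), X ^ i = 0)
    (hconj : ∀ t, X * ρ t = ρ (θR t) * X)
    (hRZ : ∀ u t : R, ⁅u, t⁆ ∈ Subgroup.center R) (hexp : ∀ x : R, x ^ r ∈ Subgroup.center R)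
    (hyZ : ∀ z ∈ Subgroup.center R, (θR ^ 2 ^ (n - 1)) z = z) (hab : ∃ a b : R, ⁅a, b⁆ ≠ 1)
    (hQfix : ∀ t, ∀ z ∈ Subgroup.center R, act t z = z)
    (hgen : ∀ D : Subgroup R, Subgroup.center R ≤ D → (∀ t x, x⁻¹ * act t x ∈ D) → D = ⊤)
    (hirr : ∀ D : Subgroup R, Subgroup.center R ≤ D → (∀ x ∈ D, θR x ∈ D) →
      (∀ t, ∀ x ∈ D, act t x ∈ D) → D = Subgroup.center R ∨ D = ⊤)
    (hQZ : ∀ u t : Q, ⁅u, t⁆ ∈ Subgroup.center Q)
    (hyQ : ∀ t : Q, (θQ ^ 2 ^ (n - 1)) t * t ∈ Subgroup.center Q)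
    (hΔ : ∀ H : Subgroup Q, (∀ t, t⁻¹ * (θQ ^ 2 ^ (n - 1)) t ∈ H) → H = ⊤)
    (hz₀ : ∃ z₀ ∈ Subgroup.center Q, (∃ a b : Q, z₀ = ⁅a, b⁆) ∧
      ∃ x, x⁻¹ * act z₀ x ∉ Subgroup.center R) :
    False := by
  haveI := Fact.mk hr
  letI instW : CommGroup (R ⧸ Subgroup.center R) :=
    { (inferInstance : Group (R ⧸ Subgroup.center R)) with
      mul_comm := fun x y => by
        obtain ⟨x, rfl⟩ := QuotientGroup.mk_surjective x
        obtain ⟨y, rfl⟩ := QuotientGroup.mk_surjective y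
        rw [← commutatorElement_eq_one_iff_mul_comm, ← QuotientGroup.coe_mk' (Subgroup.center R),
          ← map_commutatorElement]
        exact (QuotientGroup.eq_one_iff _).2 (hRZ x y) }
  letI instM : Module (ZMod r) (Additive (R ⧸ Subgroup.center R)) := AddCommGroup.zmodModule fun v => by
    obtain ⟨x, hx⟩ := QuotientGroup.mk_surjective (Additive.toMul v)
    change Additive.ofMul ((Additive.toMul v) ^ r) = 0
    rw [← hx, ← QuotientGroup.mk_pow, (QuotientGroup.eq_one_iff _).2 (hexp x)]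
    rfl
  have hCmap : ∀ φ : MulAut R, (Subgroup.center R).map φ.toMonoidHom = Subgroup.center R := fun φ =>
    Subgroup.characteristic_iff_map_eq.1 inferInstance φ
  let desc : MulAut R →* MulAut (R ⧸ Subgroup.center R) :=
    { toFun := fun φ => QuotientGroup.congr _ _ φ (hCmap φ)
      map_one' := MulEquiv.ext fun x => by
        obtain ⟨x, rfl⟩ := QuotientGroup.mk_surjective x
        rfl
      map_mul' := fun φ ψ => MulEquiv.ext fun x => by
        obtain ⟨x, rfl⟩ := QuotientGroup.mk_surjective x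
        rfl }
  exact minimal_aux (QuotientGroup.mk' (Subgroup.center R)) (QuotientGroup.mk'_surjective _)
    (fun x => QuotientGroup.eq_one_iff x) (desc θR) (desc.comp act) hr hq hr2 hq2 hrq hn h2K hrK hR hQ
    θR θQ hθR hθQ hfpf act hcompat ρ hρ X hX hsum hconj hRZ hexp hyZ hab hQfix hgen hirr hQZ hyQ hΔ hz₀
    (fun x => rfl) (fun t x => rfl)

end Cfsg.Agent.Gross
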