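import Cfsg.Agent.Lib.Gross.Minimal
import Cfsg.Agent.Lib.Gross.CentreMod
import Cfsg.Agent.Lib.ShultGross.Main
import Mathlib.GroupTheory.Frattini

/-! The module theorem of Gross. -/

set_option autoImplicit false
open scoped commutatorElement

universe u v

namespace Cfsg.Agent.Gross

/-- An element acting on an element by a fixed factor acts trivially, if the orders are coprime. -/
theorem coprime_fix {R : Type*} [Group R] [Finite R] {Q : Type*} [Group Q] [Finite Q]
    (hc : (Nat.card R).Coprime (Nat.card Q)) (act : Q →* MulAut R) (t : Q) (x : R)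
    (h : act t (x⁻¹ * act t x) = x⁻¹ * act t x) : act t x = x := by
  set c := x⁻¹ * act t x with hcdef
  have hk : ∀ k : ℕ, act (t ^ k) x = x * c ^ k := by
    intro k
    induction k with
    | zero => simp
    | succ k ih =>
      rw [pow_succ', map_mul, MulAut.mul_apply, ih, map_mul, map_pow, h, pow_succ', ← mul_assoc,
        hcdef, mul_inv_cancel_left]
  have h1 : c ^ Nat.card Q = 1 := by
    have := hk (Nat.card Q)
    rw [pow_card_eq_one', map_one, MulAut.one_apply, left_eq_mul] at this
    exact this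
  have h2 : c = 1 := orderOf_eq_one_iff.1 (Nat.eq_one_of_dvd_coprimes hc (orderOf_dvd_natCard c)
    (orderOf_dvd_of_pow_eq_one h1))
  rw [hcdef, inv_mul_eq_one] at h2
  exact h2.symm

theorem eq_one_of_two {G : Type*} [Group G] [Finite G] (h : IsPGroup 2 G)
    (hcop : (Nat.card G).Coprime 2) (x : G) : x = 1 := by
  haveI := Fact.mk Nat.prime_two
  obtain ⟨k, hk⟩ := h.exists_card_eq
  have : Nat.card G = 1 := by
    rcases Nat.eq_zero_or_pos k with rfl | hk0
    · simpa using hk
    · rw [hk, Nat.coprime_pow_left_iff hk0] at hcop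
      norm_num at hcop
  exact (Nat.card_eq_one_iff_unique.1 this).1.elim _ _

variable {K : Type*} [Field K] [IsAlgClosed K] {V : Type*} [AddCommGroup V] [Module K V]
  [FiniteDimensional K V]

theorem module_top {n : ℕ} (hn : 1 ≤ n) (h2K : (2 : K) ≠ 0) :
    ∀ (N : ℕ) {R : Type u} [Group R] [Finite R] {Q : Type v} [Group Q] [Finite Q],
      Nat.card R + Nat.card Q ≤ N → ∀ {r q : ℕ}, r.Prime → q.Prime → r ≠ q → (r : K) ≠ 0 →
      IsPGroup r R → IsPGroup q Q → ∀ (θR : MulAut R) (θQ : MulAut Q), θR ^ 2 ^ n = 1 →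
      θQ ^ 2 ^ n = 1 → (∀ x, θR x = x → x = 1) → (∀ t, θQ t = t → t = 1) →
      ∀ (act : Q →* MulAut R), (∀ t x, θR (act t x) = act (θQ t) (θR x)) →
      ∀ (ρ : R →* Module.End K V) (X : Module.End K V), X ^ 2 ^ n = 1 →
      (∑ i ∈ Finset.range (2 ^ n), X ^ i = 0) → (∀ x, X * ρ x = ρ (θR x) * X) →
      (∀ t x, ρ x = 1 → ρ (act t x) = 1) →
      ∀ t x, ρ (act (t⁻¹ * (θQ ^ 2 ^ (n - 1)) t) x) = ρ x := by
  classical
  intro N
  induction N with
  | zero =>
    intro R _ _ Q _ _ hN
    exact absurd hN (by have := Nat.card_pos (α := R); omega)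
  | succ N ih =>
    intro R _ _ Q _ _ hN r q hr hq hrq hrK hR hQ θR θQ hθR hθQ hfR hfQ act hcompat ρ X hX hsum hconj
      hkerinv t₁ x₁
    haveI := Fact.mk hr
    haveI := Fact.mk hq
    by_cases hr2 : r = 2
    · subst hr2
      rw [eq_one_of_two hR (ShultGross.coprime_card Nat.prime_two θR hθR hfR) x₁, map_one]
    by_cases hq2 : q = 2
    · subst hq2
      rw [eq_one_of_two hQ (ShultGross.coprime_card Nat.prime_two θQ hθQ hfQ) t₁, inv_one, one_mul,
        map_one, map_one, MulAut.one_apply]
    by_cases hρ : Function.Injective ρ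
    swap
    · -- pass to the image
      have hinv : ∀ x ∈ ρ.ker, θR x ∈ ρ.ker := fun x hx => by
        rw [MonoidHom.mem_ker] at hx ⊢
        have h := hconj x
        rw [hx, mul_one] at h
        have hpos : 0 < 2 ^ n := by positivity
        calc ρ (θR x) = ρ (θR x) * X ^ 2 ^ n := by rw [hX, mul_one]
          _ = X * X ^ (2 ^ n - 1) := by
            rw [← Nat.sub_add_cancel (hpos : 1 ≤ 2 ^ n), pow_succ', ← mul_assoc, ← h,
              Nat.add_sub_cancel]
          _ = 1 := by rw [← pow_succ', Nat.sub_add_cancel hpos, hX]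
      have hainv : ∀ t, ρ.ker.map (act t).toMonoidHom = ρ.ker := fun t =>
        ShultGross.map_eq_of_mem (act t) _ fun x hx => MonoidHom.mem_ker.2 (hkerinv t x hx)
      obtain ⟨θb, hθb, hθbk⟩ := ShultGross.exists_quot θR ρ.ker hinv
      let actb : Q →* MulAut (R ⧸ ρ.ker) :=
        { toFun := fun t => QuotientGroup.congr _ _ (act t) (hainv t)
          map_one' := MulEquiv.ext fun x => by
            obtain ⟨x, rfl⟩ := QuotientGroup.mk_surjective x
            simp
          map_mul' := fun s t => MulEquiv.ext fun x => by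
            obtain ⟨x, rfl⟩ := QuotientGroup.mk_surjective x
            simp only [map_mul, MulAut.mul_apply]
            rfl }
      have hlt : Nat.card (R ⧸ ρ.ker) < Nat.card R := by
        rw [← Subgroup.index, ← ρ.ker.index_mul_card]
        have h1 : 1 < Nat.card ρ.ker := by
          rw [Nat.one_lt_iff_ne_zero_and_ne_one]
          refine ⟨Nat.card_pos.ne', fun h => hρ ?_⟩
          rw [← MonoidHom.ker_eq_bot_iff]
          exact Subgroup.card_eq_one.1 h
        exact lt_mul_of_one_lt_right (Nat.pos_of_ne_zero Subgroup.index_ne_zero_of_finite) h1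
      exact ih (R := R ⧸ ρ.ker) (Q := Q) (by omega) hr hq hrq hrK (hR.to_quotient _) hQ θb θQ
        (MulEquiv.ext fun x => by
          obtain ⟨x, rfl⟩ := QuotientGroup.mk_surjective x
          rw [hθbk, hθR]; rfl)
        hθQ (fun x hx => ShultGross.quot_fpf θR hfR _ hinv θb hθb x hx) hfQ actb
        (fun t x => by
          obtain ⟨x, rfl⟩ := QuotientGroup.mk_surjective x
          change θb ((act t x : R) : R ⧸ ρ.ker) = actb (θQ t) (θb (x : R ⧸ ρ.ker))
          rw [hθb, hθb, hcompat]
          rfl)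
        (QuotientGroup.lift ρ.ker ρ le_rfl) X hX hsum
        (fun x => by
          obtain ⟨x, rfl⟩ := QuotientGroup.mk_surjective x
          rw [hθb]
          exact hconj x)
        (fun t x hx => by
          obtain ⟨x, rfl⟩ := QuotientGroup.mk_surjective x
          exact hkerinv t x hx)
        t₁ (x₁ : R ⧸ ρ.ker)
    by_cases hact : Function.Injective act
    swap
    · have hinv : ∀ t ∈ act.ker, θQ t ∈ act.ker := fun t ht => by
        rw [MonoidHom.mem_ker] at ht ⊢
        refine MulEquiv.ext fun x => ?_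
        obtain ⟨x, rfl⟩ := θR.surjective x
        rw [← hcompat, ht]; rfl
      obtain ⟨θb, hθb, hθbk⟩ := ShultGross.exists_quot θQ act.ker hinv
      have hlt : Nat.card (Q ⧸ act.ker) < Nat.card Q := by
        rw [← Subgroup.index, ← act.ker.index_mul_card]
        have h1 : 1 < Nat.card act.ker := by
          rw [Nat.one_lt_iff_ne_zero_and_ne_one]
          refine ⟨Nat.card_pos.ne', fun h => hact ?_⟩
          rw [← MonoidHom.ker_eq_bot_iff]
          exact Subgroup.card_eq_one.1 h
        exact lt_mul_of_one_lt_right (Nat.pos_of_ne_zero Subgroup.index_ne_zero_of_finite) h1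
      have h := ih (R := R) (Q := Q ⧸ act.ker) (by omega) hr hq hrq hrK hR (hQ.to_quotient _) θR θb hθR
        (MulEquiv.ext fun x => by
          obtain ⟨x, rfl⟩ := QuotientGroup.mk_surjective x
          rw [hθbk, hθQ]; rfl)
        hfR (fun x hx => ShultGross.quot_fpf θQ hfQ _ hinv θb hθb x hx)
        (QuotientGroup.lift act.ker act le_rfl)
        (fun t x => by
          obtain ⟨t, rfl⟩ := QuotientGroup.mk_surjective t
          rw [hθb]
          exact hcompat t x)
        ρ X hX hsum hconj
        (fun t x hx => by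
          obtain ⟨t, rfl⟩ := QuotientGroup.mk_surjective t
          exact hkerinv t x hx)
        (t₁ : Q ⧸ act.ker) x₁
      rw [hθbk] at h
      exact h
    suffices hy : ∀ t, (θQ ^ 2 ^ (n - 1)) t = t by
      rw [hy, inv_mul_cancel, map_one, MulAut.one_apply]
    clear t₁ x₁
    -- subgroups
    have hQsub : ∀ Q₀ : Subgroup Q, Q₀ ≠ ⊤ → (∀ t ∈ Q₀, θQ t ∈ Q₀) →
        ∀ t ∈ Q₀, (θQ ^ 2 ^ (n - 1)) t = t := by
      intro Q₀ hQ₀ hinv t ht
      obtain ⟨θ₀, hθ₀, hθ₀k⟩ := ShultGross.exists_res θQ Q₀ hinv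
      have hlt : Nat.card Q₀ < Nat.card Q := lt_of_le_of_ne (Subgroup.card_le_card_group Q₀)
        fun h => hQ₀ (Subgroup.eq_top_of_card_eq _ h)
      have hker : ∀ x, act ((t⁻¹ * (θQ ^ 2 ^ (n - 1)) t : Q)) x = x := fun x => by
        have h := ih (R := R) (Q := Q₀) (by omega) hr hq hrq hrK hR (hQ.to_subgroup _) θR θ₀ hθR
          (MulEquiv.ext fun x => Subtype.ext (by rw [hθ₀k, hθQ]; rfl)) hfR
          (fun x hx => Subtype.ext (hfQ _ ((hθ₀ x).symm.trans (congrArg Subtype.val hx))))
          (act.comp Q₀.subtype) (fun s x => by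
            rw [MonoidHom.comp_apply, MonoidHom.comp_apply, Subgroup.coe_subtype, hθ₀, hcompat])
          ρ X hX hsum hconj (fun s x hx => hkerinv _ x hx) ⟨t, ht⟩ x
        rw [MonoidHom.comp_apply, Subgroup.coe_subtype, Subgroup.coe_mul, Subgroup.coe_inv, hθ₀k] at h
        exact hρ h
      have h1 : act (t⁻¹ * (θQ ^ 2 ^ (n - 1)) t) = act 1 := MulEquiv.ext fun x => by
        rw [map_one, MulAut.one_apply]; exact hker x
      exact (inv_mul_eq_one.1 (hact h1)).symm
    have hRsub : ∀ D : Subgroup R, D ≠ ⊤ → (∀ x ∈ D, θR x ∈ D) → (∀ t, ∀ x ∈ D, act t x ∈ D) →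
        ∀ t, ∀ x ∈ D, act (t⁻¹ * (θQ ^ 2 ^ (n - 1)) t) x = x := by
      intro D hD hinv hainv t x hx
      obtain ⟨θ₀, hθ₀, hθ₀k⟩ := ShultGross.exists_res θR D hinv
      let act₀ : Q →* MulAut D :=
        { toFun := fun t =>
            { toFun := fun x => ⟨act t x, hainv t x x.2⟩
              invFun := fun x => ⟨act t⁻¹ x, hainv t⁻¹ x x.2⟩
              left_inv := fun x => Subtype.ext (by simp)
              right_inv := fun x => Subtype.ext (by simp)
              map_mul' := fun x y => Subtype.ext (map_mul _ _ _) }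
          map_one' := MulEquiv.ext fun x => Subtype.ext (by simp)
          map_mul' := fun s t => MulEquiv.ext fun x => Subtype.ext (by simp) }
      have hlt : Nat.card D < Nat.card R := lt_of_le_of_ne (Subgroup.card_le_card_group D)
        fun h => hD (Subgroup.eq_top_of_card_eq _ h)
      exact hρ (ih (R := D) (Q := Q) (by omega) hr hq hrq hrK (hR.to_subgroup _) hQ θ₀ θQ
        (MulEquiv.ext fun x => Subtype.ext (by rw [hθ₀k, hθR]; rfl)) hθQ
        (fun x hx => Subtype.ext (hfR _ ((hθ₀ x).symm.trans (congrArg Subtype.val hx)))) hfQ act₀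
        (fun t x => Subtype.ext (by
          rw [hθ₀]
          change θR (act t x) = act (θQ t) ((θ₀ x : D) : R)
          rw [hθ₀, hcompat]))
        (ρ.comp D.subtype) X hX hsum
        (fun x => by
          rw [MonoidHom.comp_apply, MonoidHom.comp_apply, Subgroup.coe_subtype, hθ₀]
          exact hconj x)
        (fun t x hx => hkerinv t x hx) t ⟨x, hx⟩)
    by_contra hcon
    push Not at hcon
    obtain ⟨t₀, ht₀⟩ := hcon
    set y := θQ ^ 2 ^ (n - 1) with hy
    have hyy : ∀ t, y (y t) = t := fun t => by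
      rw [hy, ← MulAut.mul_apply, ← pow_add, ← two_mul, ← pow_succ', Nat.sub_add_cancel hn, hθQ]; rfl
    obtain ⟨kQ, hkQ⟩ := hQ.exists_card_eq
    obtain ⟨kR, hkR⟩ := hR.exists_card_eq
    have hQodd : Odd (Nat.card Q) := by rw [hkQ]; exact (hq.odd_of_ne_two hq2).pow
    have hcop : (Nat.card R).Coprime (Nat.card Q) := by
      rw [hkR, hkQ]; exact Nat.coprime_pow_primes _ _ hr hq hrq
    have hΔ : ∀ H : Subgroup Q, (∀ t, t⁻¹ * y t ∈ H) → H = ⊤ := by
      intro H hH
      set Δ := Subgroup.closure (Set.range fun t => t⁻¹ * y t) with hΔ'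
      have hΔH : Δ ≤ H := by
        rw [hΔ', Subgroup.closure_le]; rintro _ ⟨t, rfl⟩; exact hH t
      by_contra hH'
      have hΔtop : Δ ≠ ⊤ := fun h => hH' (top_le_iff.1 (h ▸ hΔH))
      have hinv : Δ.map θQ.toMonoidHom ≤ Δ := by
        rw [hΔ', MonoidHom.map_closure, Subgroup.closure_le]
        rintro _ ⟨_, ⟨t, rfl⟩, rfl⟩
        refine Subgroup.subset_closure ⟨θQ t, ?_⟩
        simp only [MulEquiv.coe_toMonoidHom, map_mul, map_inv, hy, ← MulAut.mul_apply, ← pow_succ,
          ← pow_succ']
      have hfix := hQsub Δ hΔtop (fun t ht => hinv ⟨t, ht, rfl⟩) (t₀⁻¹ * y t₀)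
        (Subgroup.subset_closure ⟨t₀, rfl⟩)
      rw [map_mul, map_inv, hyy] at hfix
      refine ht₀ (inv_mul_eq_one.1 (eq_one_of_sq (a := t₀⁻¹ * y t₀) ?_ hQodd pow_card_eq_one')).symm
      conv_lhs => arg 1; rw [← hfix]
      group
    -- subgroups are fixed by the acting group
    have hQfixD : ∀ D : Subgroup R, D ≠ ⊤ → (∀ x ∈ D, θR x ∈ D) → (∀ t, ∀ x ∈ D, act t x ∈ D) →
        ∀ t, ∀ x ∈ D, act t x = x := by
      intro D hD hinv hainv t
      let H : Subgroup Q :=
        { carrier := {t | ∀ x ∈ D, act t x = x}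
          one_mem' := fun x _ => by simp
          mul_mem' := fun {a b} ha hb x hx => by rw [map_mul, MulAut.mul_apply, hb x hx, ha x hx]
          inv_mem' := fun {a} ha x hx => by
            conv_lhs => rw [← ha x hx]
            rw [← MulAut.mul_apply, ← map_mul, inv_mul_cancel, map_one, MulAut.one_apply] }
      have h : t ∈ H := by
        rw [hΔ H fun t x hx => hRsub D hD hinv hainv t x hx]
        exact Subgroup.mem_top t
      exact h
    have hRQ : ∀ D : Subgroup R, (∀ t x, x⁻¹ * act t x ∈ D) → D = ⊤ := by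
      intro D hD
      set C := Subgroup.closure (Set.range fun p : Q × R => p.2⁻¹ * act p.1 p.2) with hC
      have hCD : C ≤ D := by
        rw [hC, Subgroup.closure_le]; rintro _ ⟨p, rfl⟩; exact hD _ _
      by_contra hDtop
      have hCtop : C ≠ ⊤ := fun h => hDtop (top_le_iff.1 (h ▸ hCD))
      have h1 : C.map θR.toMonoidHom ≤ C := by
        rw [hC, MonoidHom.map_closure, Subgroup.closure_le]
        rintro _ ⟨_, ⟨p, rfl⟩, rfl⟩
        refine Subgroup.subset_closure ⟨(θQ p.1, θR p.2), ?_⟩
        simp only [MulEquiv.coe_toMonoidHom, map_mul, map_inv, hcompat]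
      have h2 : ∀ s, C.map (act s).toMonoidHom ≤ C := fun s => by
        rw [hC, MonoidHom.map_closure, Subgroup.closure_le]
        rintro _ ⟨_, ⟨p, rfl⟩, rfl⟩
        refine Subgroup.subset_closure ⟨(s * p.1 * s⁻¹, act s p.2), ?_⟩
        simp
      have hfix := hQfixD C hCtop (fun x hx => h1 ⟨x, hx, rfl⟩) (fun s x hx => h2 s ⟨x, hx, rfl⟩)
      refine ht₀ ?_
      have hall : ∀ t, act t = 1 := fun t => MulEquiv.ext fun x =>
        coprime_fix hcop act t x (hfix t _ (Subgroup.subset_closure ⟨(t, x), rfl⟩))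
      exact hact ((hall _).trans (hall _).symm)
    have hcenR : ∀ D : Subgroup R, D.Normal → D ≠ ⊤ → (∀ x ∈ D, θR x ∈ D) →
        (∀ t, ∀ x ∈ D, act t x ∈ D) → D ≤ Subgroup.center R := by
      intro D hDn hD hinv hainv d hd
      have htop : Subgroup.centralizer ({d} : Set R) = ⊤ := hRQ _ fun t x => by
        refine Subgroup.mem_centralizer_iff.2 fun z hz => ?_
        rw [Set.mem_singleton_iff.1 hz]
        have h := hQfixD D hD hinv hainv t _ (hDn.conj_mem d hd x)
        rw [map_mul, map_mul, map_inv, hQfixD D hD hinv hainv t d hd] at h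
        have h2 := congrArg (fun z => x⁻¹ * z * act t x) h
        simp only [mul_assoc, inv_mul_cancel, mul_one, inv_mul_cancel_left] at h2
        simpa [mul_assoc] using h2.symm
      exact Subgroup.mem_center_iff.2 fun g => (Subgroup.mem_centralizer_iff.1
        (htop ▸ Subgroup.mem_top g : g ∈ Subgroup.centralizer ({d} : Set R)) d rfl).symm
    have hnt : Nontrivial R := by
      by_contra hnt
      rw [not_nontrivial_iff_subsingleton] at hnt
      exact ht₀ (hact (MulEquiv.ext fun x => Subsingleton.elim _ _))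
    have hntQ : Nontrivial Q := ⟨⟨_, _, ht₀⟩⟩
    haveI : Group.IsNilpotent R := hR.isNilpotent
    haveI : Group.IsNilpotent Q := hQ.isNilpotent
    have hchar : ∀ (φ : MulAut R) (D : Subgroup R) [D.Characteristic], ∀ x ∈ D, φ x ∈ D :=
      fun φ D _ x hx => ShultGross.mem_char φ inferInstance hx
    have hRZ : ∀ u t : R, ⁅u, t⁆ ∈ Subgroup.center R := fun u t =>
      hcenR (commutator R) inferInstance (Group.IsSolvable.commutator_lt_top_of_nontrivial R).ne
        (hchar θR _) (fun s => hchar (act s) _)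
        (Subgroup.commutator_mem_commutator (Subgroup.mem_top u) (Subgroup.mem_top t))
    have hfrat : frattini R ≠ ⊤ := fun h => by
      have := frattini_nongenerating (G := R) (K := ⊥) (by rw [h, bot_sup_eq])
      exact bot_ne_top this
    have hexp : ∀ x : R, x ^ r ∈ Subgroup.center R := fun x =>
      hcenR (frattini R) inferInstance hfrat (hchar θR _) (fun s => hchar (act s) _)
        (PGroupBasics.pow_mem_frattini hR x)
    have hRK : (Nat.card R : K) ≠ 0 := by rw [hkR, Nat.cast_pow]; exact pow_ne_zero _ hrK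
    have hyZ : ∀ z ∈ Subgroup.center R, (θR ^ 2 ^ (n - 1)) z = z := fun z hz =>
      hρ (center_top_fixed Nat.prime_two hn hRK θR hθR ρ X hsum hconj z hz)
    have hZtop : Subgroup.center R ≠ ⊤ := fun h => by
      refine ht₀ (hact (MulEquiv.ext fun x => ?_))
      have hall : ∀ z, (θR ^ 2 ^ (n - 1)) z = z := fun z => hyZ z (h ▸ Subgroup.mem_top z)
      have hck : ∀ (k : ℕ) t x, (θR ^ k) (act t x) = act ((θQ ^ k) t) ((θR ^ k) x) := by
        intro k
        induction k with
        | zero => intro t x; simp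
        | succ k ih' => intro t x; simp only [pow_succ', MulAut.mul_apply, ih', hcompat]
      have h1 := hck (2 ^ (n - 1)) t₀ x
      rw [hall, hall] at h1
      exact h1.symm
    have hQfix : ∀ t, ∀ z ∈ Subgroup.center R, act t z = z :=
      hQfixD _ hZtop (hchar θR _) (fun s => hchar (act s) _)
    have hirr : ∀ D : Subgroup R, Subgroup.center R ≤ D → (∀ x ∈ D, θR x ∈ D) →
        (∀ t, ∀ x ∈ D, act t x ∈ D) → D = Subgroup.center R ∨ D = ⊤ := by
      intro D hZD hinv hainv
      refine or_iff_not_imp_right.2 fun hD => le_antisymm (hcenR D ⟨fun t ht g => ?_⟩ hD hinv hainv) hZD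
      rw [show g * t * g⁻¹ = ⁅g, t⁆ * t by rw [commutatorElement_def]; group]
      exact D.mul_mem (hZD (hRZ g t)) ht
    have hcenQ : ∀ D : Subgroup Q, D.Normal → D ≠ ⊤ → (∀ t ∈ D, θQ t ∈ D) →
        D ≤ Subgroup.center Q := by
      intro D hDn hD hinv d hd
      have hfx := hQsub D hD hinv
      have htop : Subgroup.centralizer ({d} : Set Q) = ⊤ := hΔ _ fun g => by
        refine Subgroup.mem_centralizer_iff.2 fun z hz => ?_
        rw [Set.mem_singleton_iff.1 hz]
        have h := hfx _ (hDn.conj_mem d hd g)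
        rw [map_mul, map_mul, map_inv, show y d = d from hfx d hd] at h
        have h2 := congrArg (fun z => g⁻¹ * z * y g) h
        simp only [mul_assoc, inv_mul_cancel, mul_one, inv_mul_cancel_left] at h2
        simpa [mul_assoc] using h2.symm
      exact Subgroup.mem_center_iff.2 fun g => (Subgroup.mem_centralizer_iff.1
        (htop ▸ Subgroup.mem_top g : g ∈ Subgroup.centralizer ({d} : Set Q)) d rfl).symm
    have hQZ : ∀ u t : Q, ⁅u, t⁆ ∈ Subgroup.center Q := fun u t =>
      hcenQ (commutator Q) inferInstance (Group.IsSolvable.commutator_lt_top_of_nontrivial Q).ne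
        (fun s hs => ShultGross.mem_char θQ inferInstance hs)
        (Subgroup.commutator_mem_commutator (Subgroup.mem_top u) (Subgroup.mem_top t))
    have hyQ : ∀ t : Q, y t * t ∈ Subgroup.center Q := by
      let S : Subgroup Q :=
        { carrier := {x | y x * x ∈ Subgroup.center Q}
          one_mem' := by simp
          mul_mem' := fun {a b} ha hb => by
            change y (a * b) * (a * b) ∈ Subgroup.center Q
            rw [map_mul, show y a * y b * (a * b) = (y a * a) * ((a⁻¹ * (y b) * a * (y b)⁻¹) * (y b * b)) by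
              group]
            refine Subgroup.mul_mem _ ha (Subgroup.mul_mem _ ?_ hb)
            have h := hQZ a⁻¹ (y b)
            rwa [commutatorElement_def, inv_inv] at h
          inv_mem' := fun {a} ha => by
            change y a⁻¹ * a⁻¹ ∈ Subgroup.center Q
            rw [map_inv, show (y a)⁻¹ * a⁻¹ = (a * (y a * a) * a⁻¹)⁻¹ by group]
            exact Subgroup.inv_mem _ ((inferInstance : (Subgroup.center Q).Normal).conj_mem _ ha a) }
      intro t
      have hS : S = ⊤ := hΔ S fun s => by
        change y (s⁻¹ * y s) * (s⁻¹ * y s) ∈ Subgroup.center Q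
        rw [map_mul, map_inv, hyy]
        simp [mul_assoc]
      exact (hS ▸ Subgroup.mem_top t : t ∈ S)
    have hnabQ : ∃ a b : Q, ⁅a, b⁆ ≠ 1 := by
      by_contra hab
      push Not at hab
      have hmem : t₀ ∈ Subgroup.center Q :=
        Subgroup.mem_center_iff.2 fun g => commutatorElement_eq_one_iff_mul_comm.1 (hab g t₀)
      have h0 : act (t₀⁻¹ * y t₀) = act 1 := MulEquiv.ext fun x => by
        rw [map_one, MulAut.one_apply]
        exact coprime_fix hcop act _ x (hQfix _ _
          (centre_mod hr hq hrq hn hQ θR θQ hθR hθQ hfR act hcompat hRZ hexp t₀ hmem x))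
      exact ht₀ (inv_mul_eq_one.1 (hact h0)).symm
    obtain ⟨a, b, hab⟩ := hnabQ
    refine minimal_false hr hq hr2 hq2 hrq hn h2K hrK hR hQ θR θQ hθR hθQ hfR act hcompat ρ hρ X hX
      hsum hconj hRZ hexp hyZ ?_ hQfix (fun D _ h => hRQ D h) hirr hQZ hyQ hΔ
      ⟨⁅a, b⁆, hQZ a b, ⟨a, b, rfl⟩, ?_⟩
    · by_contra hcomm
      push Not at hcomm
      exact hZtop ((Subgroup.eq_top_iff' _).2 fun x => Subgroup.mem_center_iff.2 fun g =>
        commutatorElement_eq_one_iff_mul_comm.1 (hcomm g x))
    · by_contra hall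
      push Not at hall
      have h0 : act ⁅a, b⁆ = act 1 := MulEquiv.ext fun x => by
        rw [map_one, MulAut.one_apply]
        exact coprime_fix hcop act _ x (hQfix _ _ (hall x))
      exact hab (hact h0)

end Cfsg.Agent.Gross
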