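import Cfsg.Agent.Lib.Gross.Eigen
import Cfsg.Agent.Lib.ShultGross.Core

/-! The stabiliser of a weight of a class two group: counts and eigenvectors. -/

set_option autoImplicit false
open scoped commutatorElement

open Module

namespace Cfsg.Agent.Gross

open ShultGross (form form_swap form_central form_mul_left form_mul_right radical exists_orbit grouping
  conj_pow invariant_pow_mul)

variable {K : Type*} [Field K] [IsAlgClosed K] {V : Type*} [AddCommGroup V] [Module K V]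
  [FiniteDimensional K V]

theorem pow_mem_of_mem {Q : Type*} [Group Q] {θ : MulAut Q} {D : Subgroup Q}
    (h : ∀ t ∈ D, θ t ∈ D) (k : ℕ) : ∀ t ∈ D, (θ ^ k) t ∈ D := by
  induction k with
  | zero => intro t ht; simpa using ht
  | succ k ih => intro t ht; rw [pow_succ', MulAut.mul_apply]; exact h _ (ih t ht)

theorem mem_of_pow_mem {Q : Type*} [Group Q] {θ : MulAut Q} {D : Subgroup Q}
    (h : ∀ t, θ t ∈ D → t ∈ D) (k : ℕ) : ∀ t, (θ ^ k) t ∈ D → t ∈ D := by
  induction k with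
  | zero => intro t ht; simpa using ht
  | succ k ih => intro t ht; rw [pow_succ, MulAut.mul_apply] at ht; exact h _ (ih _ ht)

theorem stage {Q : Type*} [Group Q] [Finite Q] {p n : ℕ} (hp : p.Prime) (hn : 1 ≤ n)
    (hpK : (p : K) ≠ 0) (θ : MulAut Q) (hθ : θ ^ p ^ n = 1) (τ : Q →* Module.End K V)
    (X : Module.End K V) (hX : X ^ p ^ n = 1) (hsum : ∑ i ∈ Finset.range (p ^ n), X ^ i = 0)
    (hconj : ∀ t, X * τ t = τ (θ t) * X) (hQZ : ∀ u t : Q, ⁅u, t⁆ ∈ Subgroup.center Q)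
    (lam : Subgroup.center Q →* Kˣ) (W₀ : Submodule K V) (hW₀ : W₀ ≠ ⊥)
    (hW₀i : ∀ t, ∀ v ∈ W₀, τ t v ∈ W₀)
    (hW₀z : ∀ c : Subgroup.center Q, ∀ v ∈ W₀, τ (c : Q) v = (lam c : K) • v)
    (S : Subgroup Q) (hradS : radical hQZ lam ≤ S)
    (hnd : ∀ x ∈ S, (∀ w ∈ S, form hQZ lam w x = 1) → x ∈ radical hQZ lam)
    (hSne : ∃ x ∈ S, x ∉ radical hQZ lam)
    (hS : ∀ k, (∀ t ∈ radical hQZ lam, (θ ^ k) t ∈ radical hQZ lam) → ∀ s ∈ S, (θ ^ k) s ∈ S)
    (hy : ∀ s ∈ S, (θ ^ p ^ (n - 1)) s * s⁻¹ ∈ radical hQZ lam → s ∈ radical hQZ lam) :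
    ∃ (e : ℕ) (ω : Finset K) (m : K → ℕ) (N M : ℕ), 1 ≤ e ∧ e ≤ n ∧ ω.card = p ^ e ∧ (1 : K) ∈ ω ∧
      2 ≤ N ∧ N * N = ((radical hQZ lam).subgroupOf S).index ∧ N * N = p ^ e * M + 1 ∧
      ∑ a ∈ ω, m a = N ∧ ∑ a ∈ ω, m a ^ 2 = M + 1 ∧ m 1 = 0 ∧
      ∃ L : Submodule K V, (∀ s ∈ S, ∀ v ∈ L, τ s v ∈ L) ∧
        (∀ L' ≤ L, (∀ s ∈ S, ∀ v ∈ L', τ s v ∈ L') → L' = ⊥ ∨ L' = L) ∧
        (∀ c : Subgroup.center Q, ∀ v ∈ L, τ (c : Q) v = (lam c : K) • v) ∧
        ∀ a ∈ ω, 0 < m a → ∃ v ∈ L, v ≠ 0 ∧ (X ^ p ^ (n - e)) v = a • v ∧ a ^ p ^ e = 1 := by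
  classical
  have hZθ : ∀ z ∈ (Subgroup.center Q), θ z ∈ (Subgroup.center Q) := fun z hz => Subgroup.mem_center_iff.2 fun w => by
    obtain ⟨w', rfl⟩ := θ.surjective w
    rw [← map_mul, ← map_mul, Subgroup.mem_center_iff.1 hz w']
  have hZθ' : ∀ z, θ z ∈ (Subgroup.center Q) → z ∈ (Subgroup.center Q) := fun z hz => Subgroup.mem_center_iff.2 fun w => by
    refine θ.injective ?_
    rw [map_mul, map_mul, Subgroup.mem_center_iff.1 hz (θ w)]
  have hθk := pow_mem_of_mem hZθ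
  have hZR : (Subgroup.center Q) ≤ (radical hQZ lam) := fun c hc w => by rw [form_swap, form_central _ _ _ hc, inv_one]
  set lf : Q → K := fun t => if h : t ∈ (Subgroup.center Q) then (lam ⟨t, h⟩ : K) else 0 with hlf
  have hlfv : ∀ s ∈ (Subgroup.center Q), ∀ v ∈ W₀, τ s v = lf s • v := fun s hs v hv => by
    rw [hlf]; simp only [dif_pos hs]; exact hW₀z ⟨s, hs⟩ v hv
  obtain ⟨w₁, hw₁W, hw₁⟩ := (Submodule.ne_bot_iff W₀).1 hW₀
  obtain ⟨j, hjn, hja, hjdist, -⟩ := exists_orbit hp θ hθ (Subgroup.center Q) hZθ lf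
  have hsum1 : ∀ v, (∀ s ∈ (Subgroup.center Q), τ s v = lf s • v) →
      ∑ k ∈ Finset.range (p ^ (n - j)), ((X ^ p ^ j) ^ k) v = 0 := by
    intro v hv
    simp only [← pow_mul]
    refine grouping τ X θ hconj (Subgroup.center Q) hZθ hZθ' lf (p ^ j) (p ^ (n - j)) (Nat.one_le_pow _ _ hp.pos)
      hja hjdist v hv ?_
    rw [← pow_add, Nat.add_sub_cancel' hjn, ← LinearMap.sum_apply, hsum, LinearMap.zero_apply]
  set θ₁ : MulAut Q := θ ^ p ^ j with hθ₁
  have hlam1 : ∀ (c : (Subgroup.center Q)) (h : θ₁ (c : Q) ∈ (Subgroup.center Q)), lam ⟨_, h⟩ = lam c := by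
    intro c h
    have hcZ : (c : Q) ∈ (Subgroup.center Q) := c.2
    have h2 := hja _ hcZ
    rw [hlf] at h2
    simp only [dif_pos hcZ, dif_pos h] at h2
    exact Units.ext h2
  have hform1 : ∀ s t, form hQZ lam (θ₁ s) (θ₁ t) = form hQZ lam s t := fun s t => by
    refine Eq.trans ?_ (hlam1 ⟨⁅s, t⁆, hQZ s t⟩ (by rw [map_commutatorElement]; exact hQZ _ _))
    exact congrArg lam (Subtype.ext (map_commutatorElement θ₁ s t).symm)
  have hR1 : ∀ t ∈ (radical hQZ lam), θ₁ t ∈ (radical hQZ lam) := fun t ht w => by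
    obtain ⟨w', rfl⟩ := θ₁.surjective w
    rw [hform1]; exact ht w'
  have hR1' : ∀ t, θ₁ t ∈ (radical hQZ lam) → t ∈ (radical hQZ lam) := fun t ht w => by rw [← hform1]; exact ht (θ₁ w)
  obtain ⟨W, hWW₀, hW0, hWi, hWmin⟩ :=
    HHLinear.exists_irreducible (τ.comp S.subtype) W₀ hW₀ (fun t v hv => hW₀i _ v hv)
  haveI : Nontrivial W := Submodule.nontrivial_iff_ne_bot.2 hW0
  obtain ⟨w₀, hw₀W, hw₀⟩ := (Submodule.ne_bot_iff W).1 hW0
  have hvec : ∀ a b : K, a • w₀ = b • w₀ → a = b := fun a b h => smul_left_injective K hw₀ h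
  have hWi' : ∀ t : S, ∀ v ∈ W, τ (t : Q) v ∈ W := hWi
  let σ : S →* Module.End K W :=
    { toFun := fun t => (τ (t : Q)).restrict (hWi' t)
      map_one' := LinearMap.ext fun w => Subtype.ext (by simp)
      map_mul' := fun a b => LinearMap.ext fun w => Subtype.ext (by simp) }
  have hirr : ∀ U : Submodule K W, (∀ t, ∀ v ∈ U, σ t v ∈ U) → U = ⊥ ∨ U = ⊤ := fun U hU => by
    rcases hWmin (U.map W.subtype) (Submodule.map_subtype_le _ _) (by
      rintro t _ ⟨v, hv, rfl⟩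
      exact ⟨_, hU t v hv, rfl⟩) with h | h
    · exact Or.inl (Submodule.map_injective_of_injective W.injective_subtype (by rw [h, Submodule.map_bot]))
    · exact Or.inr (Submodule.map_injective_of_injective W.injective_subtype
        (by rw [h, Submodule.map_subtype_top]))
  obtain ⟨-, hschur⟩ := HHLinear.span_eq_top_and_schur σ hirr
  have hrad1 : ∀ r ∈ (radical hQZ lam), ∀ t : Q, lam ⟨⁅r, t⁆, hQZ r t⟩ = 1 := fun r hr t => by
    have := hr t
    rw [form_swap] at this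
    exact inv_eq_one.1 this
  have hswap : ∀ r t : Q, r * t = t * r * ⁅r⁻¹, t⁻¹⁆ := fun r t => by
    rw [commutatorElement_def]; group
  have hcommW : ∀ (r : Q), r ∈ (radical hQZ lam) → ∀ (t : Q) (v : V), v ∈ W₀ → τ r (τ t v) = τ t (τ r v) := by
    intro r hr t v hv
    have h1 : τ (⁅r⁻¹, t⁻¹⁆ : Q) v = v := by
      rw [hW₀z ⟨_, hQZ _ _⟩ v hv, hrad1 _ ((radical hQZ lam).inv_mem hr)]
      simp
    rw [← Module.End.mul_apply, ← Module.End.mul_apply, ← map_mul, ← map_mul, hswap r t,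
      map_mul, Module.End.mul_apply, h1]
  have hμex : ∀ r : Q, ∃ c : K, ∀ hr : r ∈ (radical hQZ lam), σ ⟨r, hradS hr⟩ = c • 1 := fun r => by
    by_cases hr : r ∈ (radical hQZ lam)
    · obtain ⟨c, hc⟩ := hschur (σ ⟨r, hradS hr⟩) fun t => LinearMap.ext fun v =>
        Subtype.ext (hcommW r hr t v (hWW₀ v.2))
      exact ⟨c, fun _ => hc⟩
    · exact ⟨0, fun h => absurd h hr⟩
  choose μ hμ using hμex
  have hμW : ∀ r ∈ (radical hQZ lam), ∀ v ∈ W, τ r v = μ r • v := fun r hr v hv => by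
    have := congrArg (fun G : Module.End K W => ((G ⟨v, hv⟩ : W) : V)) (hμ r hr)
    simpa [σ] using this
  have hμlf : ∀ s ∈ (Subgroup.center Q), μ s = lf s := fun s hs =>
    hvec _ _ (by rw [← hμW s (hZR hs) w₀ hw₀W, hlfv s hs w₀ (hWW₀ hw₀W)])
  have hθ1n : θ₁ ^ p ^ (n - j) = 1 := by rw [hθ₁, ← pow_mul, ← pow_add, Nat.add_sub_cancel' hjn, hθ]
  obtain ⟨k, hkn, hka, hkdist, -⟩ := exists_orbit hp θ₁ hθ1n (radical hQZ lam) hR1 μ
  set e := n - (j + k) with he
  set a := p ^ (n - e) with ha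
  have hajk : a = p ^ j * p ^ k := by rw [ha, ← pow_add]; congr 1; omega
  set h := p ^ e with hh
  set θ₂ : MulAut Q := θ ^ a with hθ₂
  set X₂ : Module.End K V := X ^ a with hX₂
  have hθ₂' : θ₂ = θ₁ ^ p ^ k := by rw [hθ₂, hajk, pow_mul]
  let U : Submodule K V :=
    { carrier := {v | ∀ r ∈ (radical hQZ lam), τ r v = μ r • v}
      add_mem' := fun {v w} hv hw r hr => by rw [map_add, hv r hr, hw r hr, smul_add]
      zero_mem' := fun r _ => by rw [map_zero, smul_zero]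
      smul_mem' := fun c v hv r hr => by rw [map_smul, hv r hr, smul_comm] }
  have hconj1 : ∀ t, X ^ p ^ j * τ t = τ (θ₁ t) * X ^ p ^ j := conj_pow hconj _
  have hconj2 : ∀ t, X₂ * τ t = τ (θ₂ t) * X₂ := conj_pow hconj _
  have hsum2 : ∀ v ∈ U, ∑ i ∈ Finset.range h, (X₂ ^ i) v = 0 := by
    intro v hv
    have h1 := hsum1 v fun s hs => by rw [hv s (hZR hs), hμlf s hs]
    rw [show n - j = k + e by omega, pow_add] at h1
    have h2 := grouping τ (X ^ p ^ j) θ₁ hconj1 (radical hQZ lam) hR1 hR1' μ (p ^ k) h (Nat.one_le_pow _ _ hp.pos)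
      hka hkdist v hv h1
    simpa only [hX₂, hajk, ← pow_mul, mul_assoc] using h2
  have hWU : W ≤ U := fun v hv r hr => hμW r hr v hv
  have he1 : 1 ≤ e := by
    by_contra hcon
    have h2 := hsum2 w₀ (hWU hw₀W)
    rw [hh, show e = 0 by omega, pow_zero, Finset.sum_range_one, pow_zero] at h2
    exact hw₀ h2
  have hR2 : ∀ t ∈ (radical hQZ lam), θ₂ t ∈ (radical hQZ lam) := hθ₂' ▸ pow_mem_of_mem hR1 _
  have hR2' : ∀ t, θ₂ t ∈ (radical hQZ lam) → t ∈ (radical hQZ lam) := hθ₂' ▸ mem_of_pow_mem hR1' _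
  have hS2 : ∀ s ∈ S, θ₂ s ∈ S := hS a hR2
  have hμ2 : ∀ s ∈ (radical hQZ lam), μ (θ₂ s) = μ s := fun s hs => by rw [hθ₂']; exact hka s hs
  have hUX : ∀ v ∈ U, X₂ v ∈ U := by
    intro v hv r hr
    obtain ⟨r', rfl⟩ := θ₂.surjective r
    have h1 := congrArg (fun F : Module.End K V => F v) (hconj2 r')
    simp only [Module.End.mul_apply] at h1
    rw [← h1, hv r' (hR2' r' hr), map_smul, hμ2 r' (hR2' r' hr)]
  have hUτ : ∀ t, ∀ v ∈ U, τ t v ∈ U := by
    intro t v hv r hr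
    have h1 : τ (⁅r⁻¹, t⁻¹⁆ : Q) v = v := by
      rw [hv _ (hZR (hQZ _ _)), hμlf _ (hQZ _ _), hlf]
      simp only [dif_pos (hQZ r⁻¹ t⁻¹)]
      rw [hrad1 _ ((radical hQZ lam).inv_mem hr)]
      simp
    rw [← Module.End.mul_apply, ← map_mul, hswap r t, map_mul, Module.End.mul_apply, h1, map_mul,
      Module.End.mul_apply, hv r hr, map_smul]
  let τU : S →* Module.End K U :=
    { toFun := fun t => (τ (t : Q)).restrict (hUτ t)
      map_one' := LinearMap.ext fun w => Subtype.ext (by simp)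
      map_mul' := fun a b => LinearMap.ext fun w => Subtype.ext (by simp) }
  set XU : Module.End K U := X₂.restrict hUX with hXU
  have hXUk : ∀ (i : ℕ) (v : U), ((XU ^ i) v : V) = (X₂ ^ i) v := by
    intro i
    induction i with
    | zero => intro v; rfl
    | succ i ih =>
      intro v
      rw [pow_succ', pow_succ' X₂, Module.End.mul_apply, Module.End.mul_apply, ← ih]
      rfl
  have hh2 : 2 ≤ h := le_trans hp.two_le (Nat.le_self_pow (by omega) p)
  have hhK : (h : K) ≠ 0 := by rw [hh, Nat.cast_pow]; exact pow_ne_zero _ hpK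
  have hah : a * h = p ^ n := by rw [ha, hh, ← pow_add]; congr 1; omega
  have hapos : 0 < a := pow_pos hp.pos _
  obtain ⟨θS, hθS, hθSk⟩ : ∃ θS : MulAut S, (∀ s : S, ((θS s : S) : Q) = θ₂ s) ∧
      ∀ (i : ℕ) (s : S), (((θS ^ i) s : S) : Q) = (θ₂ ^ i) s := by
    refine ⟨MulEquiv.ofBijective ((θ₂.toMonoidHom.comp S.subtype).codRestrict S fun s => hS2 s s.2)
      (Finite.injective_iff_bijective.1 fun x y hxy => Subtype.ext (θ₂.injective (congrArg Subtype.val hxy))),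
      fun s => rfl, ?_⟩
    intro i
    induction i with
    | zero => simp
    | succ i ih =>
      intro s
      rw [pow_succ', MulAut.mul_apply, pow_succ', MulAut.mul_apply, ← ih]
      rfl
  set RS := (radical hQZ lam).subgroupOf S with hRS
  have hscal : ∀ (t : S) (c : K), σ t = c • 1 → t ∈ RS := by
    intro t c hc
    refine hnd _ t.2 fun w hw => ?_
    set wS : S := ⟨w, hw⟩ with hwS
    have hstep : ∀ v : W, σ t v = c • v := fun v => by
      rw [hc, LinearMap.smul_apply, Module.End.one_apply]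
    have h1 : σ ⁅wS, t⁆ = 1 := LinearMap.ext fun v => by
      rw [commutatorElement_def, map_mul, map_mul, map_mul, Module.End.mul_apply,
        Module.End.mul_apply, Module.End.mul_apply, hstep]
      have hinv : c • σ t⁻¹ v = v := by
        rw [← hstep, ← Module.End.mul_apply, ← map_mul, mul_inv_cancel, map_one]; rfl
      rw [map_smul, ← map_smul, ← map_smul, hinv, ← Module.End.mul_apply, ← map_mul, mul_inv_cancel,
        map_one]
    have h2 : ((lam ⟨⁅w, (t : Q)⁆, hQZ w t⟩ : Kˣ) : K) • w₀ = (1 : K) • w₀ := by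
      rw [one_smul, ← hW₀z ⟨⁅w, (t : Q)⁆, hQZ w t⟩ w₀ (hWW₀ hw₀W)]
      have h3 := congrArg (fun G : Module.End K W => ((G ⟨w₀, hw₀W⟩ : W) : V)) h1
      exact h3
    exact Units.ext (hvec _ _ h2)
  have hfree : ∀ t, t ∉ RS → ∀ i, 0 < i → i < h → ((θS ^ i) t) * t⁻¹ ∉ RS := by
    intro t ht i hi hih hmem
    apply ht
    change (((θS ^ i) t * t⁻¹ : S) : Q) ∈ (radical hQZ lam) at hmem
    rw [Subgroup.coe_mul, hθSk, Subgroup.coe_inv] at hmem
    change (t : Q) ∈ (radical hQZ lam)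
    set m := a * i with hm
    have hgi : θ₂ ^ i = θ ^ m := by rw [hθ₂, ← pow_mul]
    obtain ⟨f, hf, hfm⟩ := (Nat.dvd_prime_pow hp).1 (Nat.gcd_dvd_right m (p ^ n))
    have hmlt : m < p ^ n := hah ▸ (Nat.mul_lt_mul_left hapos).2 hih
    have hfn : f < n := lt_of_le_of_ne hf fun hfn => by
      have : p ^ n ∣ m := hfn ▸ hfm ▸ Nat.gcd_dvd_left m (p ^ n)
      exact absurd (Nat.le_of_dvd (Nat.mul_pos hapos hi) this) (not_le.2 hmlt)
    obtain ⟨c, hc⟩ : ∃ c, (θ ^ m) ^ c = θ ^ p ^ (n - 1) := by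
      have hmem1 : θ ^ p ^ f ∈ Subgroup.zpowers (θ ^ m) := by
        refine ⟨Nat.gcdA m (p ^ n), ?_⟩
        have hb := Nat.gcd_eq_gcd_ab m (p ^ n)
        rw [hfm] at hb
        calc (θ ^ m) ^ Nat.gcdA m (p ^ n)
            = θ ^ ((m : ℤ) * Nat.gcdA m (p ^ n)) *
                (θ ^ ((p ^ n : ℕ) : ℤ)) ^ Nat.gcdB m (p ^ n) := by
              rw [zpow_natCast θ (p ^ n), hθ, one_zpow, mul_one, zpow_mul, zpow_natCast]
          _ = θ ^ ((p ^ f : ℕ) : ℤ) := by rw [← zpow_mul, ← zpow_add, ← hb]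
          _ = θ ^ p ^ f := zpow_natCast θ _
      have hmem2 : θ ^ p ^ (n - 1) ∈ Subgroup.zpowers (θ ^ m) := by
        rw [show p ^ (n - 1) = p ^ f * p ^ (n - 1 - f) by rw [← pow_add]; congr 1; omega,
          pow_mul θ (p ^ f)]
        exact Subgroup.pow_mem _ hmem1 _
      exact Submonoid.mem_powers_iff _ _ |>.1 (mem_powers_iff_mem_zpowers.2 hmem2)
    have hall : ∀ c, ((θ₂ ^ i) ^ c) (t : Q) * (t : Q)⁻¹ ∈ (radical hQZ lam) := by
      intro c
      induction c with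
      | zero => simp
      | succ c ih =>
        rw [pow_succ', MulAut.mul_apply, show (θ₂ ^ i) (((θ₂ ^ i) ^ c) (t : Q)) * (t : Q)⁻¹ =
          (θ₂ ^ i) (((θ₂ ^ i) ^ c) (t : Q) * (t : Q)⁻¹) * ((θ₂ ^ i) (t : Q) * (t : Q)⁻¹) by
          rw [map_mul, map_inv]; group]
        exact (radical hQZ lam).mul_mem (pow_mem_of_mem hR2 i _ ih) hmem
    refine hy _ t.2 ?_
    have := hall c
    rwa [hgi, hc] at this
  let ι : W →ₗ[K] U := Submodule.inclusion hWU
  have hRStop : RS ≠ ⊤ := fun hR => by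
    obtain ⟨x, hxS, hx⟩ := hSne
    exact hx (hR ▸ Subgroup.mem_top (⟨x, hxS⟩ : S) : (⟨x, hxS⟩ : S) ∈ RS)
  obtain ⟨ω, m, N, M, hωc, hω1, hN2, hNR, hNM, hm1, hm2, hm0, f, hfinj, hfint, hfev⟩ :=
    Gross.inner_eigen hh2 hhK τU XU θS
      (MulEquiv.ext fun s => Subtype.ext (by
        rw [hθSk, hθ₂, ← pow_mul, hah, hθ]; rfl))
      (LinearMap.ext fun v => Subtype.ext (by rw [hXUk, hX₂, ← pow_mul, hah, hX]; rfl))
      (fun t => LinearMap.ext fun v => Subtype.ext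
        ((congrArg (fun F : Module.End K V => F (v : V)) (hconj2 t)).trans (by
          simp only [Module.End.mul_apply, τU, MonoidHom.coe_mk, OneHom.coe_mk,
            LinearMap.restrict_coe_apply, hθS]
          rfl)))
      σ hirr ι (fun h0 => hw₀ (by
        have := congrArg (fun G : W →ₗ[K] U => ((G ⟨w₀, hw₀W⟩ : U) : V)) h0
        simpa [ι] using this))
      (fun t => rfl) RS (fun s => μ (s : Q)) (fun s hs => hμ _ hs) hscal
      (fun w t => hZR (hQZ (w : Q) (t : Q)))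
      (fun s hs => by
        change ((θS s : S) : Q) ∈ (radical hQZ lam)
        rw [hθS]; exact hR2 _ hs)
      (fun s hs => by rw [hθS]; exact hμ2 _ hs) hfree hRStop
  have hz : m 1 = 0 := hm0 (LinearMap.ext fun v => Subtype.ext (by
    rw [LinearMap.sum_apply, Submodule.coe_sum, LinearMap.zero_apply, Submodule.coe_zero]
    simp_rw [hXUk]
    exact hsum2 v v.2))
  set g : W →ₗ[K] V := U.subtype ∘ₗ f with hg
  have hginj : Function.Injective g := fun x y hxy => hfinj (Subtype.ext hxy)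
  have hgint : ∀ (s : S) (w : W), τ (s : Q) (g w) = g (σ s w) := fun s w => by
    have := congrArg (fun F : W →ₗ[K] U => ((F w : U) : V)) (hfint s)
    exact this
  refine ⟨e, ω, m, N, M, he1, by omega, hωc, hω1, hN2, hNR, hNM, hm1, hm2, hz, LinearMap.range g,
    ?_, ?_, ?_, ?_⟩
  · rintro s hs _ ⟨w, rfl⟩
    exact ⟨σ ⟨s, hs⟩ w, (hgint ⟨s, hs⟩ w).symm⟩
  · intro L' hL' hinv
    rcases hirr (L'.comap g) (fun t w hw => by
      rw [Submodule.mem_comap, ← hgint]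
      exact hinv _ t.2 _ hw) with h | h
    · refine Or.inl ((Submodule.eq_bot_iff _).2 fun v hv => ?_)
      obtain ⟨w, rfl⟩ := hL' hv
      rw [show w = 0 from (Submodule.eq_bot_iff _).1 h w hv, map_zero]
    · refine Or.inr (le_antisymm hL' ?_)
      rintro _ ⟨w, rfl⟩
      exact (Submodule.eq_top_iff'.1 h w : w ∈ L'.comap g)
  · rintro c _ ⟨w, rfl⟩
    have := (f w).2 (c : Q) (hZR c.2)
    rw [hμlf _ c.2, hlf] at this
    have hcZ : (c : Q) ∈ (Subgroup.center Q) := c.2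
    simp only [dif_pos hcZ] at this
    exact this
  · intro b hb hmb
    obtain ⟨w, hw, hwb⟩ := hfev b hb hmb
    have h1 : (X ^ p ^ (n - e)) (g w) = b • g w := congrArg Subtype.val hwb
    refine ⟨g w, ⟨w, rfl⟩, fun h0 => hw (hginj (by rw [h0, map_zero])), h1, ?_⟩
    have hpow : ∀ i : ℕ, ((X ^ p ^ (n - e)) ^ i) (g w) = b ^ i • g w := by
      intro i
      induction i with
      | zero => simp
      | succ i ih => rw [pow_succ', Module.End.mul_apply, ih, map_smul, h1, smul_smul, ← pow_succ]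
    have h2 := hpow (p ^ e)
    rw [← pow_mul, show p ^ (n - e) * p ^ e = p ^ n from hah, hX, Module.End.one_apply] at h2
    exact (smul_left_injective K (fun h0 => hw (hginj (by rw [h0, map_zero])))
      (h2.symm.trans (one_smul K _).symm))

end Cfsg.Agent.Gross
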