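import Cfsg.Agent.Lib.ShultGross.Core

/-! The top power of the operator fixes the centre of the image. -/

set_option autoImplicit false

namespace Cfsg.Agent.Gross

open ShultGross (exists_weight exists_orbit grouping invariant_pow_mul)

variable {K : Type*} [Field K] [IsAlgClosed K] {V : Type*} [AddCommGroup V] [Module K V]
  [FiniteDimensional K V]

theorem center_top_fixed {Q : Type*} [Group Q] [Finite Q] {p n : ℕ} (hp : p.Prime) (hn : 1 ≤ n)
    (hQK : (Nat.card Q : K) ≠ 0) (θ : MulAut Q) (hθ : θ ^ p ^ n = 1) (τ : Q →* Module.End K V)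
    (X : Module.End K V) (hsum : ∑ i ∈ Finset.range (p ^ n), X ^ i = 0)
    (hconj : ∀ t, X * τ t = τ (θ t) * X) (z : Q) (hz : z ∈ Subgroup.center Q) :
    τ ((θ ^ p ^ (n - 1)) z) = τ z := by
  classical
  have hZθ : ∀ t ∈ Subgroup.center Q, θ t ∈ Subgroup.center Q := fun t ht =>
    Subgroup.mem_center_iff.2 fun w => by
      obtain ⟨w', rfl⟩ := θ.surjective w
      rw [← map_mul, ← map_mul, Subgroup.mem_center_iff.1 ht w']
  have hZθ' : ∀ t, θ t ∈ Subgroup.center Q → t ∈ Subgroup.center Q := fun t ht =>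
    Subgroup.mem_center_iff.2 fun w => by
      refine θ.injective ?_
      rw [map_mul, map_mul, Subgroup.mem_center_iff.1 ht (θ w)]
  have hyz : (θ ^ p ^ (n - 1)) z ∈ Subgroup.center Q := by
    induction p ^ (n - 1) with
    | zero => simpa using hz
    | succ i ih => rw [pow_succ', MulAut.mul_apply]; exact hZθ _ ih
  by_contra hne
  obtain ⟨W, lam, hW0, hWi, -, hlz, hlW⟩ := exists_weight hQK τ
    (⟨_, hyz⟩ * (⟨z, hz⟩ : Subgroup.center Q)⁻¹) (fun h => hne (by
      rw [Subgroup.coe_mul, Subgroup.coe_inv, map_mul] at h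
      calc τ ((θ ^ p ^ (n - 1)) z) = τ ((θ ^ p ^ (n - 1)) z) * (τ z⁻¹ * τ z) := by
            rw [← map_mul τ z⁻¹, inv_mul_cancel, map_one, mul_one]
        _ = τ z := by rw [← mul_assoc, h, one_mul]))
  obtain ⟨w₀, hw₀W, hw₀⟩ := (Submodule.ne_bot_iff W).1 hW0
  set lf : Q → K := fun t => if h : t ∈ Subgroup.center Q then (lam ⟨t, h⟩ : K) else 0 with hlf
  obtain ⟨j, hjn, hja, hjdist, -⟩ := exists_orbit hp θ hθ (Subgroup.center Q) hZθ lf
  have hjlt : j < n := by
    by_contra hcon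
    have h := grouping τ X θ hconj (Subgroup.center Q) hZθ hZθ' lf (p ^ j) (p ^ (n - j))
      (Nat.one_le_pow _ _ hp.pos) hja hjdist w₀ (fun s hs => by
        rw [hlf]; simp only [dif_pos hs]; exact hlW ⟨s, hs⟩ w₀ hw₀W)
      (by rw [← pow_add, Nat.add_sub_cancel' hjn, ← LinearMap.sum_apply, hsum, LinearMap.zero_apply])
    rw [show j = n by omega, Nat.sub_self, pow_zero, Finset.sum_range_one, mul_zero, pow_zero] at h
    exact hw₀ h
  apply hlz
  have h := invariant_pow_mul hZθ hja (p ^ (n - 1 - j)) z hz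
  rw [← pow_add, show j + (n - 1 - j) = n - 1 by omega, hlf] at h
  simp only [dif_pos hz, dif_pos hyz] at h
  rw [map_mul, map_inv, Units.ext h, mul_inv_cancel]

end Cfsg.Agent.Gross
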